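import Groth.Agent.DRingKFlat.Api
import Groth.Agent.DRingKProj.Derived
import Groth.Agent.DRingKProj.PseudoCoh

/-!
# K-flat complexes compute derived tensor products and derived base change
-/

universe u

open CategoryTheory Limits MonoidalCategory HomologicalComplex

namespace Groth.Agent.DRingTorAmp

attribute [local instance] HasDerivedCategory.standard

set_option linter.style.haveILetI false

variable {R : Type u} [CommRing R]

open Groth.Agent.DRingKFlat

theorem quasiIso_of_cone_acyclic {S : Type u} [Ring S] {K L : CochainComplex (ModuleCat.{u} S) ℤ} (f : K ⟶ L)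
    (h : (CochainComplex.mappingCone f).Acyclic) : QuasiIso f := by
  refine ⟨fun i => ?_⟩
  rw [quasiIsoAt_iff_isIso_homologyMap]
  exact (NatIso.isIso_map_iff (DerivedCategory.homologyFunctorFactors _ i) f).1
    (((DRingKProj.isoAbove_Q_map_iff (i - 1) f).2 fun j _ => h j).1 i (by omega))

theorem cone_acyclic_of_quasiIso {S : Type u} [Ring S] {K L : CochainComplex (ModuleCat.{u} S) ℤ} (f : K ⟶ L)
    [QuasiIso f] : (CochainComplex.mappingCone f).Acyclic := fun i => by
  exact (DRingKProj.isoAbove_Q_map_iff i f).1 (DRingKProj.IsoAbove.of_isIso i _) i le_rfl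

/-- A K-projective complex is K-flat. -/
theorem isKFl_of_isKProjective (P : DRing.Cx R) [P.IsKProjective] : IsKFl P := by
  obtain ⟨N, q, hN, -, hq, -⟩ := exists_resolution P
  haveI := hq
  obtain ⟨s, hs⟩ : ∃ s : P ⟶ N, Nonempty (Homotopy (s ≫ q) (𝟙 P)) := by
    haveI : IsIso (DerivedCategory.Q.map q) := (DerivedCategory.isIso_Q_map_iff_quasiIso _ q).2 hq
    obtain ⟨g, hg⟩ := (CochainComplex.IsKProjective.Qh_map_bijective P
      ((HomotopyCategory.quotient _ _).obj N)).surjective
      ((DerivedCategory.quotientCompQhIso _).hom.app P ≫ inv (DerivedCategory.Q.map q) ≫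
        (DerivedCategory.quotientCompQhIso _).inv.app N)
    obtain ⟨s, rfl⟩ := (HomotopyCategory.quotient _ _).map_surjective g
    refine ⟨s, ⟨HomotopyCategory.homotopyOfEq _ _
      ((CochainComplex.IsKProjective.Qh_map_bijective P ((HomotopyCategory.quotient _ _).obj P)).injective ?_)⟩⟩
    rw [← cancel_mono ((DerivedCategory.quotientCompQhIso _).hom.app P),
      DerivedCategory.quotientCompQhIso_hom_naturality, DerivedCategory.quotientCompQhIso_hom_naturality,
      Functor.map_comp, CategoryTheory.Functor.map_id, Category.comp_id,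
      ← reassoc_of% DerivedCategory.quotientCompQhIso_hom_naturality, hg]
    simp
  refine isKFlat_iff.2 fun F hF => acyclic_iff_isZero.2 fun i => ?_
  obtain ⟨hs⟩ := hs
  let a := HomologicalComplex.homologyMap (((tCx R).obj F).map s) i
  let b := HomologicalComplex.homologyMap (((tCx R).obj F).map q) i
  have hab : a ≫ b = 𝟙 _ := by
    rw [← HomologicalComplex.homologyMap_comp, ← Functor.map_comp, ← HomologicalComplex.homologyMap_id,
      ← ((tCx R).obj F).map_id]
    exact Homotopy.homologyMap_eq (mapBifunctorMapHomotopy₂ (𝟙 F) hs (tB R) (.up ℤ)) i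
  exact (IsZero.iff_id_eq_zero _).2 (by
    rw [← hab, (acyclic_iff_isZero.1 (isKFlat_iff.1 hN F hF) i).eq_of_tgt a 0, zero_comp])

theorem conj_comm {V : Type*} [Category* V] {A A' B B' D D' : V} (a : A ≅ B) (a' : A' ≅ B') {d : B ⟶ B'}
    {f : A ⟶ A'} (h : a.hom ≫ d = f ≫ a'.hom) {w : A ⟶ D} {w' : A' ⟶ D'} {g : D ⟶ D'} (h' : w ≫ g = f ≫ w') :
    (a.inv ≫ w) ≫ g = d ≫ a'.inv ≫ w' := by
  have : d = a.inv ≫ f ≫ a'.hom := by rw [← h, Iso.inv_hom_id_assoc]
  rw [this, Category.assoc, h', Category.assoc, Category.assoc, Iso.hom_inv_id_assoc]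

theorem isZero_single (M : Mo R) (q : ℤ) (hq : q ≠ 0) :
    IsZero (((HomologicalComplex.single (Mo R) (ComplexShape.up ℤ) 0).obj M).X q) :=
  HomologicalComplex.isZero_single_obj_X (ComplexShape.up ℤ) 0 M q hq

/-- `K ⊗ M[0]` is the termwise tensor product. -/
noncomputable def totSingleIso (C : Cx R) (M : Mo R) :
    tot C ((HomologicalComplex.single (Mo R) (ComplexShape.up ℤ) 0).obj M) ≅ DRing.tensorCx C M :=
  HomologicalComplex.Hom.isoOfComponents
    (fun n => (@asIso _ _ _ _ _ (isIso_ι_of_isZero (F := C) 0 (isZero_single M) n n (add_zero n))).symm ≪≫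
      ((tB R).obj (C.X n)).mapIso (HomologicalComplex.singleObjXSelf (ComplexShape.up ℤ) 0 M))
    (fun i j hij => conj_comm
      (@asIso _ _ _ _ _ (isIso_ι_of_isZero (F := C) 0 (isZero_single M) i i (add_zero i)))
      (@asIso _ _ _ _ _ (isIso_ι_of_isZero (F := C) 0 (isZero_single M) j j (add_zero j)))
      (ι_d_of_isZero 0 (isZero_single M) i j i j hij (add_zero i) (add_zero j))
      (whisker_exchange (C.d i j) (HomologicalComplex.singleObjXSelf (ComplexShape.up ℤ) 0 M).hom))

theorem acyclic_tensorCx {C : DRing.Cx R} (hC : IsKFl C) (hac : C.Acyclic) (M : ModuleCat.{u} R) :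
    (DRing.tensorCx C M).Acyclic :=
  acyclic_of_iso (totBraidIso _ C ≪≫ totSingleIso C M) (acyclic_tot_of_isKFlat_acyclic hC hac _)

theorem quasiIso_map {S : Type u} [CommRing S] (G : ModuleCat.{u} R ⥤ ModuleCat.{u} S) [G.Additive]
    (hG : ∀ C : DRing.Cx R, IsKFl C → C.Acyclic → ((G.mapHomologicalComplex (ComplexShape.up ℤ)).obj C).Acyclic)
    {P Q : DRing.Cx R} (hP : IsKFl P) (hQ : IsKFl Q) (α : P ⟶ Q) [QuasiIso α] :
    QuasiIso ((G.mapHomologicalComplex (ComplexShape.up ℤ)).map α) :=
  quasiIso_of_cone_acyclic _ (acyclic_of_iso (CochainComplex.mappingCone.mapHomologicalComplexIso α G)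
    (hG _ (isKFlat_cone α hP hQ) (cone_acyclic_of_quasiIso α)))

/-- A left derived functor on a K-flat complex. -/
theorem exists_value_iso {S : Type u} [CommRing S] (G : ModuleCat.{u} R ⥤ ModuleCat.{u} S) [G.Additive]
    [(DRingKProj.khFun G).HasLeftDerivedFunctor (HomotopyCategory.quasiIso (ModuleCat.{u} R) (ComplexShape.up ℤ))]
    (hG : ∀ C : DRing.Cx R, IsKFl C → C.Acyclic → ((G.mapHomologicalComplex (ComplexShape.up ℤ)).obj C).Acyclic)
    {F : DRing.Cx R} (hF : IsKFl F) :
    Nonempty (((DRingKProj.khFun G).totalLeftDerived DerivedCategory.Qh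
      (HomotopyCategory.quasiIso (ModuleCat.{u} R) (ComplexShape.up ℤ))).obj (DerivedCategory.Q.obj F) ≅
      DerivedCategory.Q.obj ((G.mapHomologicalComplex (ComplexShape.up ℤ)).obj F)) := by
  obtain ⟨P, π, hP, hπ, -⟩ := DRingKProj.exists_resolution F
  haveI := hP
  haveI := hπ
  haveI : IsIso (DerivedCategory.Q.map π) := (DerivedCategory.isIso_Q_map_iff_quasiIso _ π).2 hπ
  haveI : IsIso (DerivedCategory.Q.map ((G.mapHomologicalComplex (ComplexShape.up ℤ)).map π)) :=
    (DerivedCategory.isIso_Q_map_iff_quasiIso _ _).2 (quasiIso_map G hG (isKFl_of_isKProjective P) hF π)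
  exact ⟨((DRingKProj.khFun G).totalLeftDerived DerivedCategory.Qh
      (HomotopyCategory.quasiIso (ModuleCat.{u} R) (ComplexShape.up ℤ))).mapIso
        (asIso (DerivedCategory.Q.map π)).symm ≪≫ DRingKProj.valueIso G P ≪≫
      asIso (DerivedCategory.Q.map ((G.mapHomologicalComplex (ComplexShape.up ℤ)).map π))⟩

theorem exists_lTensor_iso (M : ModuleCat.{u} R) [DRing.HasLTensor R M] {F : DRing.Cx R} (hF : IsKFl F) :
    Nonempty ((DRing.LTensor R M).obj (DRing.toD F) ≅ DRing.toD (DRing.tensorCx F M)) :=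
  exists_value_iso (tensorRight M) (fun _ hC hac => acyclic_tensorCx hC hac M) hF

theorem acyclic_baseChange {S : Type u} [CommRing S] (φ : R →+* S) {C : DRing.Cx R} (hC : IsKFl C)
    (hac : C.Acyclic) :
    (((ModuleCat.extendScalars.{u, u, u} φ).mapHomologicalComplex (ComplexShape.up ℤ)).obj C).Acyclic := by
  letI := φ.toAlgebra
  intro i
  have h := (acyclic_tensorCx hC hac (ModuleCat.of R S)) i
  rw [HomologicalComplex.exactAt_iff' _ (i - 1) i (i + 1) (by simp) (by simp),
    ShortComplex.moduleCat_exact_iff] at h ⊢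
  intro x hx
  change TensorProduct R S (C.X i) at x
  obtain ⟨w, hw⟩ := h (TensorProduct.comm R S (C.X i) x) (by
    show (C.d i (i + 1)).hom.rTensor S (TensorProduct.comm R S (C.X i) x) = 0
    rw [LinearMap.rTensor_def, TensorProduct.map_comm,
      show TensorProduct.map LinearMap.id (C.d i (i + 1)).hom x = 0 from hx, map_zero])
  change TensorProduct R (C.X (i - 1)) S at w
  refine ⟨(TensorProduct.comm R (C.X (i - 1)) S w : TensorProduct R S (C.X (i - 1))), ?_⟩
  show TensorProduct.map LinearMap.id (C.d (i - 1) i).hom (TensorProduct.comm R (C.X (i - 1)) S w) = x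
  rw [TensorProduct.map_comm]
  have hw' : TensorProduct.map (C.d (i - 1) i).hom LinearMap.id w = TensorProduct.comm R S (C.X i) x := hw
  rw [hw', ← TensorProduct.comm_symm (R := R), LinearEquiv.symm_apply_apply]

theorem exists_lBaseChange_iso {S : Type u} [CommRing S] (φ : R →+* S) [DRing.HasLBaseChange φ] {F : DRing.Cx R}
    (hF : IsKFl F) : Nonempty ((DRing.LBaseChange φ).obj (DRing.toD F) ≅
      DRing.toD (((ModuleCat.extendScalars.{u, u, u} φ).mapHomologicalComplex (ComplexShape.up ℤ)).obj F)) :=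
  exists_value_iso (ModuleCat.extendScalars.{u, u, u} φ) (fun _ hC hac => acyclic_baseChange φ hC hac) hF

end Groth.Agent.DRingTorAmp
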