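import Groth.Agent.DRingTorAmp.Devissage
import Mathlib.Algebra.Homology.DerivedCategory.FullyFaithful

/-!
# Perfect complexes of given amplitude
-/

universe u

open CategoryTheory Limits Pretriangulated MonoidalCategory

namespace Groth.Agent.DRingTorAmp

attribute [local instance] HasDerivedCategory.standard

set_option linter.style.haveILetI false

variable {R : Type u} [CommRing R]

/-- The triangle of the lowest term of a complex. -/
theorem exists_lowest_triangle (K : DRing.Cx R) (c : ℤ) (hK : ∀ i, i < c → IsZero (K.X i)) :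
    ∃ T ∈ distTriang (Dual.D R), Nonempty (T.obj₁ ≅ DRing.toD (DRingKProj.trunc K (c + 1))) ∧
      Nonempty (T.obj₂ ≅ DRing.toD K) ∧
      Nonempty (T.obj₃ ≅ (DerivedCategory.singleFunctor (ModuleCat.{u} R) c).obj (K.X c)) := by
  let p : K ⟶ (HomologicalComplex.single (ModuleCat.{u} R) (ComplexShape.up ℤ) c).obj (K.X c) :=
    HomologicalComplex.mkHomToSingle (𝟙 _) fun i hi => (hK i (by simp at hi; omega)).eq_of_src _ _
  let S : ShortComplex (DRing.Cx R) := ShortComplex.mk (DRingKProj.truncι K (c + 1)) p (by
    refine HomologicalComplex.hom_ext _ _ fun i => ?_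
    simp only [HomologicalComplex.comp_f, HomologicalComplex.zero_f]
    by_cases hi : i = c
    · subst hi
      exact (DRingKProj.isZero_trunc_X K _ (by omega)).eq_of_src _ _
    · exact (HomologicalComplex.isZero_single_obj_X _ _ _ i hi).eq_of_tgt _ _)
  have hS : S.ShortExact := HomologicalComplex.shortExact_of_degreewise_shortExact S fun i => by
    by_cases hi : i ≤ c
    · have hz1 : IsZero ((DRingKProj.trunc K (c + 1)).X i) := DRingKProj.isZero_trunc_X K _ (by omega)
      have hp : IsIso (p.f i) := by
        by_cases hic : i = c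
        · subst hic
          simp only [p, HomologicalComplex.mkHomToSingle_f]
          infer_instance
        · exact isIso_of_source_target_iso_zero _ (IsZero.isoZero (hK i (by omega)))
            (IsZero.isoZero (HomologicalComplex.isZero_single_obj_X _ _ _ i hic))
      haveI := hp
      exact
        { exact := (ShortComplex.exact_iff_mono _ (hz1.eq_of_src _ _)).2 (inferInstanceAs (Mono (p.f i)))
          mono_f := ⟨fun _ _ _ => hz1.eq_of_tgt _ _⟩
          epi_g := inferInstanceAs (Epi (p.f i)) }
    · have hz3 : IsZero (((HomologicalComplex.single (ModuleCat.{u} R) (ComplexShape.up ℤ) c).obj (K.X c)).X i) :=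
        HomologicalComplex.isZero_single_obj_X _ _ _ i (by omega)
      have hiso : IsIso ((DRingKProj.truncι K (c + 1)).f i) := by
        rw [ConcreteCategory.isIso_iff_bijective]
        refine ⟨Subtype.val_injective, fun x => ⟨⟨x, ?_⟩, rfl⟩⟩
        rw [DRingKProj.truncSub_of_le K _ (by omega)]
        exact Submodule.mem_top
      haveI := hiso
      exact
        { exact := (ShortComplex.exact_iff_epi _ (hz3.eq_of_tgt _ _)).2
            (inferInstanceAs (Epi ((DRingKProj.truncι K (c + 1)).f i)))
          mono_f := inferInstanceAs (Mono ((DRingKProj.truncι K (c + 1)).f i))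
          epi_g := ⟨fun _ _ _ => hz3.eq_of_src _ _⟩ }
  exact ⟨_, DerivedCategory.triangleOfSES_distinguished hS, ⟨Iso.refl _⟩, ⟨Iso.refl _⟩, ⟨(singleQIso c (K.X c)).symm⟩⟩

/-- A module whose shift has tor amplitude above its degree is flat. -/
theorem flat_of_single {C : ModuleCat.{u} R} {m N : ℤ}
    (h : DRing.HasTorAmplitudeIn R m N ((DerivedCategory.singleFunctor (ModuleCat.{u} R) m).obj C)) :
    Module.Flat R C := by
  obtain ⟨P, π, hP, hπ, hfree, hPb⟩ := DRingKProj.exists_resolution_of_exactAt
    (K := (HomologicalComplex.single (ModuleCat.{u} R) (ComplexShape.up ℤ) m).obj C) (S := fun n => n ≤ m)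
    (fun n hn => ShortComplex.exact_of_isZero_X₂ _
      (HomologicalComplex.isZero_single_obj_X (ComplexShape.up ℤ) m C n (by omega)))
    (fun n hn => by omega)
  haveI := hπ
  haveI : IsIso (DerivedCategory.Q.map π) := (DerivedCategory.isIso_Q_map_iff_quasiIso _ π).2 hπ
  have hb : DRing.VanishesAbove P m := fun i hi => hPb i (by omega)
  have hPflat : DRing.TermwiseFlat P := fun i => haveI := hfree i; inferInstance
  let e : DRing.toD P ≅ (DerivedCategory.singleFunctor (ModuleCat.{u} R) m).obj C :=
    asIso (DerivedCategory.Q.map π) ≪≫ (singleQIso m C).symm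
  have hex : ∀ (M : ModuleCat.{u} R) (i : ℤ), i < m → (DRing.tensorCx P M).ExactAt i := fun M i hi =>
    exactAt_of_hasTorAmplitudeIn h (isKFl_of_flat hb hPflat) e M i (Or.inl hi)
  haveI := quasiIso_cutπ (a := m) fun i hi => (exactAt_tensor_unit_iff P i).1 (hex _ i hi)
  haveI : IsIso (DerivedCategory.Q.map (cutπ P m)) := (DerivedCategory.isIso_Q_map_iff_quasiIso _ _).2 inferInstance
  have hout : ∀ i, i ≠ m → IsZero ((cut P m).X i) := fun i hi => by
    rcases lt_or_gt_of_ne hi with h' | h'
    · exact cut_isZero (Or.inl h')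
    · exact cut_isZero (Or.inr (hb i h'))
  let i₀ : cut P m ≅ (HomologicalComplex.single (ModuleCat.{u} R) (ComplexShape.up ℤ) m).obj ((cut P m).X m) :=
    HomologicalComplex.Hom.isoOfComponents (fun i => if hi : i = m then
        eqToIso (by rw [hi]) ≪≫ (HomologicalComplex.singleObjXSelf (ComplexShape.up ℤ) m ((cut P m).X m)).symm ≪≫
          eqToIso (by rw [hi])
      else IsZero.iso (hout i hi) (HomologicalComplex.isZero_single_obj_X _ _ _ i hi))
      (fun i j hij => by
        by_cases hi : i = m
        · exact (HomologicalComplex.isZero_single_obj_X _ _ _ j (by simp at hij; omega)).eq_of_tgt _ _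
        · exact (hout i hi).eq_of_src _ _)
  let e' : (DerivedCategory.singleFunctor (ModuleCat.{u} R) m).obj ((cut P m).X m) ≅
      (DerivedCategory.singleFunctor (ModuleCat.{u} R) m).obj C :=
    singleQIso m _ ≪≫ DerivedCategory.Q.mapIso i₀.symm ≪≫ (asIso (DerivedCategory.Q.map (cutπ P m))).symm ≪≫ e
  let e'' := ((DerivedCategory.singleFunctor (ModuleCat.{u} R) m).preimageIso e').toLinearEquiv
  haveI : Module.Flat R ((cut P m).X m) := cut_flat hPflat (flat_coker P m (hPflat m) fun M => hex M _ (by omega)) m
  exact Module.Flat.of_linearEquiv e''.symm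

/-! ### Truncation from above -/

variable (E : DRing.Cx R) (n : ℤ)

/-- What is kept below `n`. -/
noncomputable def capSub (i : ℤ) : Submodule R (E.X i) :=
  if i < n then ⊤ else if i = n then LinearMap.ker (E.d i (i + 1)).hom else ⊥

theorem d_mem_capSub (i j : ℤ) (x : E.X i) (hx : x ∈ capSub E n i) : E.d i j x ∈ capSub E n j := by
  by_cases hij : i + 1 = j
  · subst hij
    unfold capSub at hx ⊢
    rcases lt_trichotomy (i + 1) n with h | h | h
    · rw [if_pos h]; exact Submodule.mem_top
    · rw [if_neg (by omega), if_pos h, LinearMap.mem_ker]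
      show (E.d i (i + 1) ≫ E.d (i + 1) (i + 1 + 1)) x = 0
      rw [E.d_comp_d]; rfl
    · rw [if_neg (by omega), if_neg (by omega), Submodule.mem_bot]
      by_cases hi : i = n
      · rw [if_neg (by omega), if_pos hi] at hx
        exact hx
      · rw [if_neg (by omega), if_neg hi, Submodule.mem_bot] at hx
        rw [hx, map_zero]
  · rw [E.shape i j hij]
    exact Submodule.zero_mem _

/-- The truncation `⋯ → E^{n-1} → Z^n`. -/
noncomputable def cap : DRing.Cx R where
  X i := ModuleCat.of R (capSub E n i)
  d i j := ModuleCat.ofHom ((E.d i j).hom.restrict (fun x hx => d_mem_capSub E n i j x hx))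
  shape i j h := ModuleCat.hom_ext (LinearMap.ext fun x => Subtype.ext
    (congrArg (fun t => t.hom x.1) (E.shape i j h)))
  d_comp_d' i j k _ _ := ModuleCat.hom_ext (LinearMap.ext fun x => Subtype.ext
    (congrArg (fun t => t.hom x.1) (E.d_comp_d i j k)))

/-- The inclusion of the truncation. -/
noncomputable def capι : cap E n ⟶ E where
  f i := ModuleCat.ofHom (capSub E n i).subtype
  comm' _ _ _ := rfl

variable {E n}

theorem cap_isZero {i : ℤ} (h : n < i ∨ IsZero (E.X i)) : IsZero ((cap E n).X i) := by
  haveI : Subsingleton (capSub E n i) := by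
    rcases h with h | h
    · rw [capSub, if_neg (by omega), if_neg (by omega)]
      infer_instance
    · haveI := ModuleCat.subsingleton_of_isZero h
      infer_instance
  exact ModuleCat.isZero_of_subsingleton (ModuleCat.of R (capSub E n i))

theorem quasiIso_capι (hex : ∀ i, n < i → E.ExactAt i) : QuasiIso (capι E n) := by
  refine ⟨fun i => ?_⟩
  by_cases hi : n < i
  · rw [quasiIsoAt_iff_exactAt]
    · exact hex i hi
    · rw [(cap E n).exactAt_iff' (i - 1) i (i + 1) (by simp) (by simp)]
      exact ShortComplex.exact_of_isZero_X₂ _ (cap_isZero (Or.inl hi))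
  rw [quasiIsoAt_iff' (capι E n) (i - 1) i (i + 1) (by simp) (by simp), ShortComplex.quasiIso_iff,
    ConcreteCategory.isIso_iff_bijective]
  refine ⟨(FlatComplex.homologyMap_injective_iff _).2 fun x hx ⟨w, hw⟩ => ?_,
    (FlatComplex.homologyMap_surjective_iff _).2 fun z hz => ?_⟩
  · have hmem : (show E.X (i - 1) from w) ∈ capSub E n (i - 1) := by
      rw [capSub, if_pos (by omega)]
      exact Submodule.mem_top
    exact ⟨⟨w, hmem⟩, Subtype.ext hw⟩
  · have hmem : (show E.X i from z) ∈ capSub E n i := by
      rw [capSub]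
      split_ifs with h1 h2
      · exact Submodule.mem_top
      · exact hz
      · omega
    exact ⟨⟨z, hmem⟩, Subtype.ext hz, 0, (sub_self _).trans (map_zero _).symm⟩

theorem cap_finiteProjective {b : ℤ} (hb : DRing.VanishesAbove E b) (hE : DRing.TermwiseFiniteProjective E)
    (hex : ∀ i, n < i → E.ExactAt i) : DRing.TermwiseFiniteProjective (cap E n) := by
  intro i
  show Module.Finite R (capSub E n i) ∧ Module.Projective R (capSub E n i)
  by_cases h1 : i < n
  · haveI := (hE i).1
    haveI := (hE i).2
    rw [show capSub E n i = ⊤ from if_pos h1]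
    exact ⟨Module.Finite.equiv Submodule.topEquiv.symm, Module.Projective.of_equiv Submodule.topEquiv.symm⟩
  by_cases h2 : i = n
  · rw [show capSub E n i = LinearMap.ker (E.d i (i + 1)).hom from (if_neg h1).trans (if_pos h2)]
    exact DRingKProj.cycles_finite_projective E b n hb hE hex i (by omega)
  · rw [show capSub E n i = ⊥ from (if_neg h1).trans (if_neg h2)]
    exact ⟨inferInstance, inferInstance⟩

theorem exists_finiteProjective_rep {K : Dual.D R} {m n : ℤ} (hmn : m ≤ n)
    (hpc : DRing.IsPseudoCoherent R (m - 1) K) (hamp : DRing.HasTorAmplitudeIn R m n K) :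
    ∃ E : DRing.Cx R, DRing.VanishesOutside E m n ∧ DRing.TermwiseFiniteProjective E ∧
      Nonempty (DRing.toD E ≅ K) := by
  obtain ⟨E₀, b, α, hEo, hEf, hα⟩ := DRingKProj.exists_witness hpc
  have hb : DRing.VanishesAbove E₀ b := DRingKProj.vanishesAbove_of_vanishesOutside hEo
  obtain ⟨F, hFo, hFf, ⟨e⟩⟩ := id hamp
  haveI := DRingKProj.isKProjective_of_vanishesAbove hb hEf
  obtain ⟨f, hf⟩ := PCExt.Q_map_surjective_of_isKProjective E₀ F (α ≫ e.inv)
  let g : cut E₀ m ⟶ F :=
    { f := fun i => ModuleCat.ofHom ((killSub E₀ m i).liftQ (f.f i).hom fun x hx => by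
        rw [LinearMap.mem_ker]
        rw [killSub] at hx
        split_ifs at hx with h1 h2
        · exact (ModuleCat.subsingleton_of_isZero (hFo i (Or.inl h1))).elim _ _
        · obtain ⟨w, rfl⟩ := hx
          show f.f i (E₀.d (i - 1) i w) = 0
          rw [← ModuleCat.comp_apply, ← f.comm, ModuleCat.comp_apply,
            (ModuleCat.subsingleton_of_isZero (hFo (i - 1) (Or.inl (by omega)))).elim (f.f (i - 1) w) 0, map_zero]
        · rw [Submodule.mem_bot] at hx
          rw [hx, map_zero])
      comm' := fun i j _ => ModuleCat.hom_ext (Submodule.linearMap_qext _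
        (congrArg ModuleCat.Hom.hom (f.comm i j))) }
  have hfac : cutπ E₀ m ≫ g = f := HomologicalComplex.hom_ext _ _ fun i => ModuleCat.hom_ext
    (LinearMap.ext fun x => rfl)
  have hg : QuasiIso g := by
    refine ⟨fun i => ?_⟩
    by_cases hi : i < m
    · rw [quasiIsoAt_iff_exactAt]
      · rw [F.exactAt_iff' (i - 1) i (i + 1) (by simp) (by simp)]
        exact ShortComplex.exact_of_isZero_X₂ _ (hFo i (Or.inl hi))
      · rw [(cut E₀ m).exactAt_iff' (i - 1) i (i + 1) (by simp) (by simp)]
        exact ShortComplex.exact_of_isZero_X₂ _ (cut_isZero (Or.inl hi))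
    haveI := quasiIsoAt_cutπ (E := E₀) (a := m) hi
    haveI : QuasiIsoAt (cutπ E₀ m ≫ g) i := by
      rw [hfac, quasiIsoAt_iff_isIso_homologyMap]
      refine (NatIso.isIso_map_iff (DerivedCategory.homologyFunctorFactors _ i) f).1 ?_
      haveI := hα.1 i (by omega)
      show IsIso ((DerivedCategory.homologyFunctor _ i).map (DerivedCategory.Q.map f))
      rw [show DerivedCategory.Q.map f = _ from hf, Functor.map_comp]
      infer_instance
    exact quasiIsoAt_of_comp_left (cutπ E₀ m) g i
  haveI := hg
  haveI : IsIso (DerivedCategory.Q.map g) := (DerivedCategory.isIso_Q_map_iff_quasiIso _ _).2 hg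
  let T := cut E₀ m
  let eT : DRing.toD T ≅ K := asIso (DerivedCategory.Q.map g) ≪≫ e
  have hTb : DRing.VanishesAbove T b := fun i hi => cut_isZero (Or.inr (hb i hi))
  have hfl0 : DRing.TermwiseFlat E₀ := fun i => haveI := (hEf i).2; inferInstance
  -- flatness of the cokernel
  obtain ⟨Δ, hΔ, ⟨i₁⟩, ⟨i₂⟩, ⟨i₃⟩⟩ := exists_lowest_triangle T m fun i hi => cut_isZero (Or.inl hi)
  have hfree : ∀ i, m < i → Module.Finite R (T.X i) ∧ Module.Projective R (T.X i) := fun i hi => by
    haveI := (hEf i).1
    haveI := (hEf i).2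
    have hbot : killSub E₀ m i = ⊥ := by rw [killSub, if_neg (by omega), if_neg (by omega)]
    exact ⟨Module.Finite.equiv (Submodule.quotEquivOfEqBot _ hbot).symm,
      Module.Projective.of_equiv (Submodule.quotEquivOfEqBot _ hbot).symm⟩
  have hflat : Module.Flat R (T.X m) := by
    have h3 : DRing.HasTorAmplitudeIn R m (max b n) Δ.obj₃ := by
      refine torAmp_obj₃ Δ hΔ ?_ (hasTorAmplitudeIn_mono
        ((torAmpProp m n).prop_of_iso (i₂ ≪≫ eT).symm hamp) le_rfl (le_max_right _ _))
      refine (torAmpProp (m + 1) (max b n + 1)).prop_of_iso i₁.symm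
        ⟨DRingKProj.trunc T (m + 1), fun i hi => ?_, fun i => ?_, ⟨Iso.refl _⟩⟩
      · rcases hi with hi | hi
        · exact DRingKProj.isZero_trunc_X T _ hi
        · exact DRingKProj.isZero_trunc_X_of_isZero T _ (hTb i (by omega))
      · show Module.Flat R (DRingKProj.truncSub T (m + 1) i)
        by_cases h : m + 1 ≤ i
        · haveI := (hfree i (by omega)).2
          rw [DRingKProj.truncSub_of_le T _ h]
          exact Module.Flat.of_linearEquiv Submodule.topEquiv
        · rw [DRingKProj.truncSub_of_lt T _ (by omega)]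
          infer_instance
    exact flat_of_single ((torAmpProp m (max b n)).prop_of_iso i₃ h3)
  have hTf : DRing.TermwiseFiniteProjective T := fun i => by
    rcases lt_trichotomy i m with h | h | h
    · haveI := ModuleCat.subsingleton_of_isZero (cut_isZero (E := E₀) (a := m) (Or.inl h))
      exact ⟨inferInstance, inferInstance⟩
    · subst h
      haveI := (hEf i).1
      haveI := (hEf i).2
      haveI := (hEf (i - 1)).1
      haveI := Module.finitePresentation_of_projective R (E₀.X i)
      haveI : Module.FinitePresentation R (E₀.X i ⧸ killSub E₀ i i) := by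
        refine Module.finitePresentation_of_surjective (killSub E₀ i i).mkQ (Submodule.mkQ_surjective _) ?_
        rw [Submodule.ker_mkQ, killSub, if_neg (lt_irrefl i), if_pos rfl, ← Submodule.map_top (E₀.d (i - 1) i).hom]
        exact Module.Finite.fg_top.map _
      haveI : Module.Flat R (E₀.X i ⧸ killSub E₀ i i) := hflat
      exact ⟨inferInstanceAs (Module.Finite R (E₀.X i ⧸ killSub E₀ i i)),
        Module.Flat.projective_of_finitePresentation (R := R) (M := E₀.X i ⧸ killSub E₀ i i)⟩
    · exact hfree i h
  have hex : ∀ i, n < i → T.ExactAt i := fun i hi => by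
    rw [← subsingleton_HD_iff, subsingleton_HD_congr (eT ≪≫ e.symm) i, subsingleton_HD_iff,
      F.exactAt_iff' (i - 1) i (i + 1) (by simp) (by simp)]
    exact ShortComplex.exact_of_isZero_X₂ _ (hFo i (Or.inr hi))
  haveI := quasiIso_capι hex
  haveI : IsIso (DerivedCategory.Q.map (capι T n)) := (DerivedCategory.isIso_Q_map_iff_quasiIso _ _).2 inferInstance
  exact ⟨cap T n, fun i hi => cap_isZero (hi.elim (fun h => Or.inr (cut_isZero (Or.inl h))) Or.inl),
    cap_finiteProjective hTb hTf hex, ⟨asIso (DerivedCategory.Q.map (capι T n)) ≪≫ eT⟩⟩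

end Groth.Agent.DRingTorAmp
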