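import Groth.Agent.DRingTorAmp.Devissage
import Groth.Agent.DRingRetract.PseudoCoh

/-!
# Pseudo-coherence through cohomology
-/

universe u

open CategoryTheory Limits Pretriangulated

namespace Groth.Agent.DRingTorAmp

attribute [local instance] HasDerivedCategory.standard

set_option linter.style.haveILetI false

variable {R : Type u} [CommRing R]

theorem finite_middle {S : ShortComplex (ModuleCat.{u} R)} (hS : S.Exact) [Module.Finite R S.X₁]
    (h : (LinearMap.range S.g.hom).FG) : Module.Finite R S.X₂ := by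
  haveI : Module.Finite R (LinearMap.range S.g.hom) := Module.Finite.iff_fg.2 h
  refine Module.Finite.of_exact (f := S.f.hom) (g := S.g.hom.rangeRestrict) ?_ S.g.hom.surjective_rangeRestrict
  intro x
  rw [← (ShortComplex.ShortExact.moduleCat_exact_iff_function_exact S).1 hS x]
  exact ⟨fun h => congrArg Subtype.val h, fun h => Subtype.ext h⟩

theorem isPseudoCoherent_of_top {m : ℤ} (K : Dual.D R) (hv : DRingKProj.VanishGE (m + 1) K)
    (hfin : Module.Finite R ((DerivedCategory.homologyFunctor (ModuleCat.{u} R) m).obj K)) :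
    DRing.IsPseudoCoherent R m K := by
  obtain ⟨F, f, hFo, hFf, hf⟩ := DRingRetract.exists_cover K hv hfin
  exact ⟨F, m, m, f, hFo, hFf, hf⟩

theorem isPseudoCoherent_of_two {m : ℤ} (K : Dual.D R) (hv : DRingKProj.VanishGE (m + 1 + 1) K)
    (hfp : Module.FinitePresentation R ((DerivedCategory.homologyFunctor (ModuleCat.{u} R) (m + 1)).obj K))
    (hfin : Module.Finite R ((DerivedCategory.homologyFunctor (ModuleCat.{u} R) m).obj K)) :
    DRing.IsPseudoCoherent R m K := by
  haveI := hfp
  obtain ⟨F, f, hFo, hFf, hf⟩ := DRingRetract.exists_cover K hv inferInstance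
  obtain ⟨C, g, δ, hT⟩ := distinguished_cocone_triangle f
  have hC : DRingKProj.VanishGE (m + 1) C := (DRingKProj.isoAbove_mor₁_iff _ hT (m + 1)).1 hf
  have hFpc : ∀ k : ℤ, DRing.IsPseudoCoherent R k (DRing.toD F) := fun k => DRingKProj.isPseudoCoherent_toD hFo hFf k
  refine DRingKProj.isPseudoCoherent_obj₂ _ hT m (hFpc m) (isPseudoCoherent_of_top C hC ?_)
  haveI := hfin
  haveI : Module.Finite R ((DerivedCategory.homologyFunctor (ModuleCat.{u} R) (m + 1)).obj (DRing.toD F)) :=
    (DRingKProj.finite_homology (hFpc (m + 1))).1 fun j hj =>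
      ((HomologicalComplex.exactAt_iff_isZero_homology _ j).1
        (ShortComplex.exact_of_isZero_X₂ _ (hFo j (Or.inr hj)))).of_iso
        ((DerivedCategory.homologyFunctorFactors _ j).app F)
  refine @finite_middle _ _ _ (DerivedCategory.HomologySequence.exact₃ _ hT m (m + 1) rfl) hfin ?_
  have h1 : (LinearMap.ker ((DerivedCategory.homologyFunctor (ModuleCat.{u} R) (m + 1)).map f).hom).FG :=
    Module.FinitePresentation.fg_ker _ ((ModuleCat.epi_iff_surjective _).1 hf.2)
  exact (congrArg Submodule.FG (DerivedCategory.HomologySequence.exact₁ _ hT m (m + 1) rfl).moduleCat_range_eq_ker).mpr h1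

theorem isPseudoCoherent_of_finite [IsNoetherianRing R] (m : ℤ) :
    ∀ (k : ℕ) (K : Dual.D R), DRingKProj.VanishGE (m + k) K →
      (∀ i, m ≤ i → Module.Finite R ((DerivedCategory.homologyFunctor (ModuleCat.{u} R) i).obj K)) →
      DRing.IsPseudoCoherent R m K
  | 0, K, hv, hfin => isPseudoCoherent_of_top K (fun i hi => hv i (by omega)) (hfin m le_rfl)
  | k + 1, K, hv, hfin => by
    let b : ℤ := m + k
    obtain ⟨F, f, hFo, hFf, hf⟩ := DRingRetract.exists_cover (b := b) K (fun i hi => hv i (by push_cast; omega))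
      (hfin b (by omega))
    obtain ⟨C, g, δ, hT⟩ := distinguished_cocone_triangle f
    have hFpc : ∀ l : ℤ, DRing.IsPseudoCoherent R l (DRing.toD F) := fun l => DRingKProj.isPseudoCoherent_toD hFo hFf l
    refine DRingKProj.isPseudoCoherent_obj₂ _ hT m (hFpc m) (isPseudoCoherent_of_finite m k C
      ((DRingKProj.isoAbove_mor₁_iff _ hT b).1 hf) fun i hi => ?_)
    haveI := hfin i hi
    have hFfin : IsNoetherian R ((DerivedCategory.homologyFunctor (ModuleCat.{u} R) (i + 1)).obj (DRing.toD F)) := by
      haveI : Module.Finite R (F.X (i + 1)) := (hFf (i + 1)).1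
      let S := F.sc' i (i + 1) (i + 1 + 1)
      haveI : IsNoetherian R S.X₂ := isNoetherian_of_isNoetherianRing_of_finite R (F.X (i + 1))
      haveI : IsNoetherian R S.moduleCatLeftHomologyData.K :=
        inferInstanceAs (IsNoetherian R (LinearMap.ker S.g.hom))
      have h : Function.Surjective (S.homologyπ.hom ∘ₗ S.moduleCatCyclesIso.inv.hom) := fun y => by
        obtain ⟨x, hx, rfl⟩ := FlatComplex.cls_surjective y
        exact ⟨⟨x, hx⟩, rfl⟩
      haveI : IsNoetherian R S.homology := isNoetherian_of_surjective _ (LinearMap.range_eq_top.2 h)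
      exact isNoetherian_of_linearEquiv (((DerivedCategory.homologyFunctorFactors (ModuleCat.{u} R) (i + 1)).app F ≪≫
        F.homologyIsoSc' i (i + 1) (i + 1 + 1) (by simp) (by simp)).toLinearEquiv).symm
    exact @finite_middle _ _ _ (DerivedCategory.HomologySequence.exact₃ _ hT i (i + 1) rfl) (hfin i hi)
      (hFfin.noetherian _)

theorem finite_of_isPseudoCoherent [IsNoetherianRing R] {m : ℤ} {K : Dual.D R} (hK : DRing.IsPseudoCoherent R m K)
    (i : ℤ) (hi : m ≤ i) : Module.Finite R ((DerivedCategory.homologyFunctor (ModuleCat.{u} R) i).obj K) := by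
  obtain ⟨E, a, b, α, -, hE, hα⟩ := hK
  let S := E.sc' (i - 1) i (i + 1)
  haveI : Module.Finite R (E.X i) := (hE i).1
  haveI : IsNoetherian R S.X₂ := isNoetherian_of_isNoetherianRing_of_finite R (E.X i)
  have h : Function.Surjective (S.homologyπ.hom ∘ₗ S.moduleCatCyclesIso.inv.hom) := fun y => by
    obtain ⟨x, hx, rfl⟩ := FlatComplex.cls_surjective y
    exact ⟨⟨x, hx⟩, rfl⟩
  haveI : IsNoetherian R (LinearMap.ker S.g.hom) := inferInstance
  haveI : Module.Finite R S.moduleCatLeftHomologyData.K := inferInstanceAs (Module.Finite R (LinearMap.ker S.g.hom))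
  haveI : Module.Finite R S.homology := Module.Finite.of_surjective _ h
  haveI : Module.Finite R ((DerivedCategory.homologyFunctor (ModuleCat.{u} R) i).obj (DRing.toD E)) :=
    Module.Finite.equiv (((DerivedCategory.homologyFunctorFactors (ModuleCat.{u} R) i).app E ≪≫
      E.homologyIsoSc' (i - 1) i (i + 1) (by simp) (by simp)).toLinearEquiv).symm
  have he : Epi ((DerivedCategory.homologyFunctor (ModuleCat.{u} R) i).map α) := (DRingKProj.IsoAbove.mono_degree hi hα).2
  exact Module.Finite.of_surjective ((DerivedCategory.homologyFunctor (ModuleCat.{u} R) i).map α).hom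
    ((ModuleCat.epi_iff_surjective _).1 he)

/-- `M[0]` in cohomology. -/
theorem vanishGE_inD (M : Type u) [AddCommGroup M] [Module R M] : DRingKProj.VanishGE 1 (Dual.inD R M) :=
  fun i hi => DerCat.isZero_homology_single 0 i (by omega) (ModuleCat.of R M)

/-- `H⁰(M[0]) = M`. -/
noncomputable def h0InD (M : Type u) [AddCommGroup M] [Module R M] :
    (DerivedCategory.homologyFunctor (ModuleCat.{u} R) 0).obj (Dual.inD R M) ≃ₗ[R] M :=
  (DerCat.homologySingleIso 0 (ModuleCat.of R M)).toLinearEquiv

theorem finite_inD_homology [IsNoetherianRing R] (M : Type u) [AddCommGroup M] [Module R M] [Module.Finite R M] (i : ℤ) :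
    Module.Finite R ((DerivedCategory.homologyFunctor (ModuleCat.{u} R) i).obj (Dual.inD R M)) := by
  by_cases h : i = 0
  · subst h
    exact Module.Finite.equiv (h0InD M).symm
  · haveI : Subsingleton ((DerivedCategory.homologyFunctor (ModuleCat.{u} R) i).obj (Dual.inD R M)) :=
      ModuleCat.subsingleton_of_isZero (DerCat.isZero_homology_single 0 i h (ModuleCat.of R M))
    infer_instance

theorem isPseudoCoherent_of_vanishGE {m : ℤ} {K : Dual.D R} (h : DRingKProj.VanishGE m K) :
    DRing.IsPseudoCoherent R m K := by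
  haveI : Subsingleton ((DerivedCategory.homologyFunctor (ModuleCat.{u} R) m).obj K) :=
    ModuleCat.subsingleton_of_isZero (h m le_rfl)
  exact isPseudoCoherent_of_top K (fun i hi => h i (by omega)) inferInstance

/-- Objects that are `m`-pseudo-coherent. -/
def pcProp (m : ℤ) : ObjectProperty (Dual.D R) := fun K => DRing.IsPseudoCoherent R m K

instance (m : ℤ) : (pcProp (R := R) m).IsClosedUnderIsomorphisms :=
  ⟨fun {_ _} e h => DRingKProj.isPseudoCoherent_of_iso e h⟩

theorem isPseudoCoherent_single {M : Type u} [AddCommGroup M] [Module R M] {m : ℤ} (n : ℤ)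
    (h : DRing.IsPseudoCoherentModule R (m - n) M) :
    DRing.IsPseudoCoherent R m ((DerivedCategory.singleFunctor (ModuleCat.{u} R) n).obj (ModuleCat.of R M)) := by
  have h' := DRingKProj.isPseudoCoherent_shift h (-n)
  rw [show m - n - -n = m by ring] at h'
  exact DRingKProj.isPseudoCoherent_of_iso (DerCat.singleShiftIso n (ModuleCat.of R M)) h'

theorem isPseudoCoherent_of_homology {m : ℤ} (K : Dual.D R) (b : ℤ) [K.IsLE b]
    (h : ∀ i, DRing.IsPseudoCoherentModule R (m - i) (Dual.HD R K i)) : DRing.IsPseudoCoherent R m K := by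
  let t := DerivedCategory.TStructure.t (C := ModuleCat.{u} R)
  refine DRingKProj.isPseudoCoherent_obj₂ _ (t.triangleLEGT_distinguished (m - 1) K) m
    (isPseudoCoherent_of_vanishGE fun i hi => DerivedCategory.isZero_of_isLE ((t.truncLE (m - 1)).obj K) (m - 1) i
      (by omega)) ?_
  show DRing.IsPseudoCoherent R m ((t.truncGT (m - 1)).obj K)
  haveI : ((t.truncGT (m - 1)).obj K).IsGE m := by
    have h' : ((t.truncGT (m - 1)).obj K).IsGE (m - 1 + 1) := inferInstance
    rwa [sub_add_cancel] at h'
  haveI : ((t.truncGT (m - 1)).obj K).IsLE (max b m) := by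
    rw [DerivedCategory.isLE_iff]
    intro i hi
    haveI := DerCat.isIso_homology_truncGTπ K (m - 1) i (by omega)
    exact (DerivedCategory.isZero_of_isLE K b i (by omega)).of_iso
      (asIso ((DerivedCategory.homologyFunctor (ModuleCat.{u} R) i).map ((t.truncGTπ (m - 1)).app K))).symm
  refine DerCat.prop_of_single (pcProp m)
    (fun Z hZ => isPseudoCoherent_of_vanishGE fun i _ => (DerivedCategory.homologyFunctor _ i).map_isZero hZ)
    (fun T hT => DRingKProj.isPseudoCoherent_obj₂ T hT m) _ m (max b m) fun i hi _ => ?_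
  haveI := DerCat.isIso_homology_truncGTπ K (m - 1) i (by omega)
  exact DRingKProj.isPseudoCoherent_of_iso ((DerivedCategory.singleFunctor (ModuleCat.{u} R) i).mapIso
    (asIso ((DerivedCategory.homologyFunctor (ModuleCat.{u} R) i).map ((t.truncGTπ (m - 1)).app K))))
    (isPseudoCoherent_single i (h i))

theorem isPseudoCoherent_of_terms {m b : ℤ} (K : DRing.Cx R) (hb : DRing.VanishesAbove K b)
    (h : ∀ i, DRing.IsPseudoCoherentModule R (m - i) (K.X i)) : DRing.IsPseudoCoherent R m (DRing.toD K) := by
  refine DRingKProj.isPseudoCoherent_of_isoAbove _ (DRingKProj.isoAbove_truncι K m) ?_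
  refine prop_of_terms (pcProp m)
    (fun Z hZ => isPseudoCoherent_of_vanishGE fun i _ => (DerivedCategory.homologyFunctor _ i).map_isZero hZ)
    (fun T hT => DRingKProj.isPseudoCoherent_obj₂ T hT m) (b + 1 - m).toNat _ m (fun i hi => ?_) fun i => ?_
  · rcases hi with hi | hi
    · exact DRingKProj.isZero_trunc_X K _ hi
    · exact DRingKProj.isZero_trunc_X_of_isZero K _ (hb i (by omega))
  · by_cases hi : i < m
    · exact isPseudoCoherent_of_vanishGE fun j _ => (DerivedCategory.homologyFunctor _ j).map_isZero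
        ((DerivedCategory.singleFunctor (ModuleCat.{u} R) i).map_isZero (DRingKProj.isZero_trunc_X K _ hi))
    · haveI : IsIso ((DRingKProj.truncι K m).f i) := by
        rw [ConcreteCategory.isIso_iff_bijective]
        refine ⟨Subtype.val_injective, fun x => ⟨⟨x, ?_⟩, rfl⟩⟩
        rw [DRingKProj.truncSub_of_le K _ (by omega)]
        exact Submodule.mem_top
      exact DRingKProj.isPseudoCoherent_of_iso ((DerivedCategory.singleFunctor (ModuleCat.{u} R) i).mapIso
        (asIso ((DRingKProj.truncι K m).f i))).symm (isPseudoCoherent_single i (h i))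

end Groth.Agent.DRingTorAmp
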