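import Groth.Agent.DRingTorAmp.Change
import Groth.Agent.DRingKProj.Triangle
import Mathlib.RingTheory.Finiteness.Descent
import Mathlib.RingTheory.Localization.BaseChange
import Mathlib.RingTheory.LocalProperties.Exactness
import Mathlib.RingTheory.Localization.Finiteness

/-!
# Descent of pseudo-coherence and tor amplitude along jointly faithfully flat families
-/

universe u

open CategoryTheory Limits MonoidalCategory Pretriangulated
open scoped TensorProduct

namespace Groth.Agent.DRingTorAmp

attribute [local instance] HasDerivedCategory.standard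

set_option linter.style.haveILetI false

open Groth.Agent.DRingKFlat

variable {R : Type u} [CommRing R] {ι : Type*} {S : ι → Type u} [∀ i, CommRing (S i)]

/-- A jointly faithfully flat family of base changes. -/
structure Cover (φ : ∀ i, R →+* S i) : Prop where
  flat : ∀ i, (φ i).Flat
  exact : ∀ {A B C : Type u} [AddCommGroup A] [Module R A] [AddCommGroup B] [Module R B] [AddCommGroup C]
    [Module R C] (f : A →ₗ[R] B) (g : B →ₗ[R] C),
      (∀ i, letI := (φ i).toAlgebra; Function.Exact (f.lTensor (S i)) (g.lTensor (S i))) → Function.Exact f g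
  finite : ∀ (N : Type u) [AddCommGroup N] [Module R N],
    (∀ i, letI := (φ i).toAlgebra; Module.Finite (S i) (S i ⊗[R] N)) → Module.Finite R N

variable {φ : ∀ i, R →+* S i}

theorem exactAt_descend (h : Cover φ) {C : DRing.Cx R} {n : ℤ}
    (hC : ∀ i, ((escCx (φ i)).obj C).ExactAt n) : C.ExactAt n := by
  rw [exact_d_iff _ (n - 1) n (n + 1) (by omega) rfl]
  refine h.exact _ _ fun i => ?_
  have := (exact_d_iff _ (n - 1) n (n + 1) (by omega) rfl).1 (hC i)
  exact this

/-- Homology commutes with flat base change. -/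
theorem exists_homology_esc_iso {T : Type u} [CommRing T] {ψ : R →+* T} (hψ : ψ.Flat) (C : DRing.Cx R) (n : ℤ) :
    Nonempty (((escCx ψ).obj C).homology n ≅ (ModuleCat.extendScalars.{u, u, u} ψ).obj (C.homology n)) := by
  letI := ψ.toAlgebra
  haveI : Module.Flat R T := hψ
  let G := ModuleCat.extendScalars.{u, u, u} ψ
  haveI : PreservesColimitsOfSize.{0, 0} G :=
    (ModuleCat.extendRestrictScalarsAdj.{u, u, u} ψ).leftAdjoint_preservesColimits
  haveI : PreservesFiniteColimits G := PreservesColimitsOfSize.preservesFiniteColimits _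
  haveI : G.PreservesMonomorphisms := ⟨fun {A B} f _ => by
    rw [ModuleCat.mono_iff_injective]
    exact Module.Flat.lTensor_preserves_injective_linearMap (M := T) f.hom ((ModuleCat.mono_iff_injective f).1 ‹_›)⟩
  haveI : PreservesFiniteLimits G := DRingKFlat.preservesFiniteLimits_of_preservesMono G
  exact ⟨(C.sc n).mapHomologyIso G⟩

theorem isPseudoCoherent_descend [Finite ι] (h : Cover φ) (K : DRing.Cx R) (m : ℤ)
    (hK : ∀ i, DRing.IsPseudoCoherent (S i) m (DRing.toD ((escCx (φ i)).obj K))) :
    DRing.IsPseudoCoherent R m (DRing.toD K) := by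
  have hb : ∀ i, ∃ b : ℤ, ∀ n, b < n → ((escCx (φ i)).obj K).ExactAt n := fun i => by
    obtain ⟨b, hb⟩ := DRingKProj.exists_vanishGE (hK i)
    exact ⟨b, fun n hn => (DRingKProj.vanishGE_Q_iff (b + 1) _).1 (fun j hj => hb j (by omega)) n (by omega)⟩
  choose bs hbs using hb
  obtain ⟨b₀, hb₀⟩ := Finite.exists_le bs
  let b := max b₀ m
  refine DRingKProj.isPseudoCoherent_of_coneFinite (b := b) (fun n hn => exactAt_descend h fun i =>
    hbs i n (by have := hb₀ i; omega)) (by omega) fun n F f hmn _ hFo hFf hex => ?_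
  refine h.finite _ fun i => ?_
  let C := CochainComplex.mappingCone f
  obtain ⟨e⟩ := exists_homology_esc_iso (h.flat i) C n
  have hF : DRing.IsPseudoCoherent (S i) (n + 1) (DRing.toD ((escCx (φ i)).obj F)) :=
    DRingKProj.isPseudoCoherent_toD (esc_outside (φ i) hFo) (DRingKProj.termwiseFiniteFree_map_extendScalars (φ i) hFf) _
  have hC := DRingKProj.isPseudoCoherent_obj₃ _
    (DerivedCategory.mappingCone_triangle_distinguished ((escCx (φ i)).map f)) n hF
    (DRingKProj.isPseudoCoherent_mono hmn (hK i))
  have eC : DRing.toD (CochainComplex.mappingCone ((escCx (φ i)).map f)) ≅ DRing.toD ((escCx (φ i)).obj C) :=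
    DerivedCategory.Q.mapIso (CochainComplex.mappingCone.mapHomologicalComplexIso f _).symm
  have hfin := (DRingKProj.finite_homology (DRingKProj.isPseudoCoherent_of_iso eC hC)).1 fun j hj =>
    (DRingKProj.vanishGE_Q_iff (n + 1) _).2 (fun l hl => esc_exactAt (h.flat i) (hex l (by omega))) j (by omega)
  haveI : Module.Finite (S i)
      ((DerivedCategory.Q ⋙ DerivedCategory.homologyFunctor (ModuleCat.{u} (S i)) n).obj ((escCx (φ i)).obj C)) := hfin
  exact Module.Finite.equiv ((DerivedCategory.homologyFunctorFactors (ModuleCat.{u} (S i)) n).app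
    ((escCx (φ i)).obj C) ≪≫ e).toLinearEquiv

theorem isPseudoCoherent'_descend [Finite ι] (h : Cover φ) (K : DRing.Cx R)
    (hK : ∀ i, DRing.IsPseudoCoherent' (S i) (DRing.toD ((escCx (φ i)).obj K))) :
    DRing.IsPseudoCoherent' R (DRing.toD K) :=
  DRingKProj.pseudoCoherent'_of_forall fun m => isPseudoCoherent_descend h K m fun i =>
    DRingKProj.isPseudoCoherent_of_pseudoCoherent' (hK i) m

theorem hasTorAmplitudeIn_cover (h : Cover φ) (K : DRing.Cx R) (a b : ℤ)
    (hK : ∀ i, DRing.HasTorAmplitudeIn (S i) a b (DRing.toD ((escCx (φ i)).obj K))) :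
    DRing.HasTorAmplitudeIn R a b (DRing.toD K) := by
  obtain ⟨P, π, hP, hπ, -⟩ := DRingKProj.exists_resolution K
  haveI := hP
  haveI := hπ
  haveI : IsIso (DerivedCategory.Q.map π) := (DerivedCategory.isIso_Q_map_iff_quasiIso _ π).2 hπ
  refine hasTorAmplitudeIn_of_exact (isKFl_of_isKProjective P) (asIso (DerivedCategory.Q.map π)) fun M n hn => ?_
  rw [exact_tensor_iff _ _ (n - 1) n (n + 1) (by omega) rfl]
  refine h.exact _ _ fun i => ?_
  letI := (φ i).toAlgebra
  haveI := quasiIso_esc (h.flat i) π
  haveI : IsIso (DerivedCategory.Q.map ((escCx (φ i)).map π)) :=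
    (DerivedCategory.isIso_Q_map_iff_quasiIso _ _).2 inferInstance
  have hx := exactAt_of_hasTorAmplitudeIn (hK i)
    (DCohBridge.isKFlat_baseChange (φ i) (isKFl_of_isKProjective P))
    (asIso (DerivedCategory.Q.map ((escCx (φ i)).map π))) (ModuleCat.of (S i) (S i ⊗[R] M)) n hn
  rw [exact_tensor_iff _ _ (n - 1) n (n + 1) (by omega) rfl] at hx
  exact (Function.Exact.iff_of_ladder_linearEquiv
    (e₁ := (TensorProduct.AlgebraTensorModule.distribBaseChange R (S i) (P.X (n - 1)) M).restrictScalars R)
    (e₂ := (TensorProduct.AlgebraTensorModule.distribBaseChange R (S i) (P.X n) M).restrictScalars R)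
    (e₃ := (TensorProduct.AlgebraTensorModule.distribBaseChange R (S i) (P.X (n + 1)) M).restrictScalars R)
    (g₁₂ := (((P.d (n - 1) n).hom.baseChange (S i)).rTensor (S i ⊗[R] M)).restrictScalars R)
    (g₂₃ := (((P.d n (n + 1)).hom.baseChange (S i)).rTensor (S i ⊗[R] M)).restrictScalars R)
    (TensorProduct.ext' fun s x => by
      induction x with
      | zero => simp
      | tmul p m => rfl
      | add x y hx hy => simp only [TensorProduct.tmul_add, map_add, hx, hy])
    (TensorProduct.ext' fun s x => by
      induction x with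
      | zero => simp
      | tmul p m => rfl
      | add x y hx hy => simp only [TensorProduct.tmul_add, map_add, hx, hy])).1 hx

theorem isPerfect_descend [Finite ι] (h : Cover φ) (K : DRing.Cx R)
    (hK : ∀ i, DRing.IsPerfect (S i) (DRing.toD ((escCx (φ i)).obj K))) : DRing.IsPerfect R (DRing.toD K) := by
  have h1 := fun i => ((isPerfect_iff _).1 (hK i)).1
  have h2 := fun i => ((isPerfect_iff _).1 (hK i)).2
  choose as bs hab using h2
  obtain ⟨a, ha⟩ := Finite.exists_ge as
  obtain ⟨b, hb⟩ := Finite.exists_le bs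
  exact (isPerfect_iff _).2 ⟨isPseudoCoherent'_descend h K h1, a, b, hasTorAmplitudeIn_cover h K a b fun i => by
    obtain ⟨E, hE, hF, he⟩ := hab i
    exact ⟨E, fun j hj => hE j (by have := ha i; have := hb i; omega), hF, he⟩⟩

theorem cover_of_faithfullyFlat {T : Type u} [CommRing T] (ψ : R →+* T)
    (hψ : letI := ψ.toAlgebra; Module.FaithfullyFlat R T) : Cover (S := fun _ : Unit => T) fun _ => ψ := by
  letI := ψ.toAlgebra
  haveI := hψ
  refine ⟨fun _ => inferInstanceAs (Module.Flat R T), ?_, ?_⟩
  · intro A B C _ _ _ _ _ _ f g h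
    exact (Module.FaithfullyFlat.lTensor_exact_iff_exact R T f g).1 (h ())
  · intro N _ _ h
    haveI : Module.Finite T (T ⊗[R] N) := h ()
    exact Module.Finite.of_finite_tensorProduct_of_faithfullyFlat T

theorem eq_zero_of_away {r : ℕ} (f : Fin r → R) (hf : Ideal.span (Set.range f) = ⊤) {B : Type u} [AddCommGroup B]
    [Module R B] (P : Submodule R B) (b : B) (h : ∀ i, ∃ n : ℕ, (f i) ^ n • b ∈ P) : b ∈ P := by
  choose n hn using h
  have hN : ∀ i, (f i) ^ (∑ j, n j) • b ∈ P := fun i => by
    rw [← Nat.sub_add_cancel (Finset.single_le_sum (fun j _ => Nat.zero_le (n j)) (Finset.mem_univ i)), pow_add, mul_smul]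
    exact P.smul_mem _ (hn i)
  have htop := Ideal.span_pow_eq_top _ hf (∑ j, n j)
  have : (1 : R) • b ∈ P := by
    have h1 : (1 : R) ∈ Ideal.span ((fun x => x ^ (∑ j, n j)) '' Set.range f) := htop ▸ Submodule.mem_top
    refine (Submodule.mem_colon_singleton (N := P) (x := b)).1 ((Ideal.span_le.2 ?_) h1)
    rintro _ ⟨_, ⟨i, rfl⟩, rfl⟩
    exact Submodule.mem_colon_singleton.2 (hN i)
  rwa [one_smul] at this

theorem cover_away {r : ℕ} (f : Fin r → R) (hf : Ideal.span (Set.range f) = ⊤) :
    Cover (S := fun i => Localization.Away (f i)) fun i => algebraMap R (Localization.Away (f i)) := by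
  have hinst : ∀ i, (algebraMap R (Localization.Away (f i))).toAlgebra =
      (inferInstance : Algebra R (Localization.Away (f i))) := fun i => Algebra.algebra_ext _ _ fun _ => rfl
  refine ⟨fun i => ?_, ?_, ?_⟩
  · show @Module.Flat R (Localization.Away (f i)) _ _ (algebraMap R (Localization.Away (f i))).toAlgebra.toModule
    rw [hinst i]
    exact IsLocalization.flat _ (Submonoid.powers (f i))
  · intro A B C _ _ _ _ _ _ g g' h
    have h' : ∀ i, Function.Exact (g.lTensor (Localization.Away (f i))) (g'.lTensor (Localization.Away (f i))) :=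
      fun i => by
        have := h i
        rw [hinst i] at this
        exact this
    intro b
    refine ⟨fun hb => eq_zero_of_away f hf (LinearMap.range g) b fun i => ?_, fun ⟨a, ha⟩ => ?_⟩
    · let L := Localization.Away (f i)
      obtain ⟨w, hw⟩ := (h' i (TensorProduct.mk R L B 1 b)).1 (by simp [hb])
      obtain ⟨⟨a, ⟨s, k, rfl⟩⟩, hs⟩ := IsLocalizedModule.surj (Submonoid.powers (f i)) (TensorProduct.mk R L A 1) w
      have e : TensorProduct.mk R L B 1 ((f i) ^ k • b) = TensorProduct.mk R L B 1 (g a) := by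
        rw [map_smul, ← hw, ← map_smul]
        exact (congrArg (g.lTensor L) hs).trans (LinearMap.lTensor_tmul L g 1 a)
      obtain ⟨⟨_, l, rfl⟩, hl⟩ := (IsLocalizedModule.eq_iff_exists (Submonoid.powers (f i)) (TensorProduct.mk R L B 1)).1 e
      refine ⟨l + k, ⟨(f i) ^ l • a, ?_⟩⟩
      rw [map_smul, pow_add, mul_smul]
      exact hl.symm
    · subst ha
      refine eq_zero_of_away f hf ⊥ _ fun i => ?_
      let L := Localization.Away (f i)
      have e : TensorProduct.mk R L C 1 (g' (g a)) = TensorProduct.mk R L C 1 0 := by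
        rw [map_zero]
        exact (h' i).apply_apply_eq_zero (TensorProduct.mk R L A 1 a)
      obtain ⟨⟨_, l, rfl⟩, hl⟩ := (IsLocalizedModule.eq_iff_exists (Submonoid.powers (f i)) (TensorProduct.mk R L C 1)).1 e
      exact ⟨l, by rw [Submodule.mem_bot]; exact hl.trans (smul_zero _)⟩
  · intro N _ _ h
    have h' : ∀ i, Module.Finite (Localization.Away (f i)) (Localization.Away (f i) ⊗[R] N) := fun i => by
      have := h i
      rw [hinst i] at this
      exact this
    classical
    let g : Set.range f → Fin r := fun x => x.2.choose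
    have hg : ∀ x, f (g x) = x.1 := fun x => x.2.choose_spec
    haveI : ∀ x : Set.range f, IsLocalization.Away x.1 (Localization.Away (f (g x))) := fun x => by
      rw [← hg x]; infer_instance
    haveI : ∀ x : Set.range f, IsLocalizedModule.Away x.1 (TensorProduct.mk R (Localization.Away (f (g x))) N 1) :=
      fun x => inferInstanceAs (IsLocalizedModule (Submonoid.powers x.1) _)
    exact Module.Finite.of_localizationSpan' (Set.range f) hf
      (fun x => TensorProduct.mk R (Localization.Away (f (g x))) N 1) fun x => h' (g x)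

end Groth.Agent.DRingTorAmp
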