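import Groth.Agent.DRingTorAmp.Change
import Groth.Agent.DRingKProj.Triangle

/-!
# Tor amplitude and perfection in distinguished triangles
-/

universe u

open CategoryTheory Limits Pretriangulated MonoidalCategory

namespace Groth.Agent.DRingTorAmp

attribute [local instance] HasDerivedCategory.standard

set_option linter.style.haveILetI false

variable {R : Type u} [CommRing R]

open Groth.Agent.DRingKFlat

theorem isZero_HD_iff (K : Dual.D R) (i : ℤ) :
    IsZero ((DerivedCategory.homologyFunctor (ModuleCat.{u} R) i).obj K) ↔ Subsingleton (Dual.HD R K i) :=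
  ⟨fun h => ModuleCat.subsingleton_of_isZero h, fun h => @ModuleCat.isZero_of_subsingleton _ _ _ h⟩

/-- The derived tensor product of a triangle with a module, on cohomology. -/
theorem lTensor_vanish (M : ModuleCat.{u} R) [DRing.HasLTensor R M] (T : Triangle (Dual.D R)) (hT : T ∈ distTriang _) :
    (∀ i, Subsingleton (Dual.HD R ((DRing.LTensor R M).obj T.obj₂) i) →
      Subsingleton (Dual.HD R ((DRing.LTensor R M).obj T.obj₁) (i + 1)) →
      Subsingleton (Dual.HD R ((DRing.LTensor R M).obj T.obj₃) i)) ∧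
    (∀ i, Subsingleton (Dual.HD R ((DRing.LTensor R M).obj T.obj₁) i) →
      Subsingleton (Dual.HD R ((DRing.LTensor R M).obj T.obj₃) i) →
      Subsingleton (Dual.HD R ((DRing.LTensor R M).obj T.obj₂) i)) ∧
    (∀ i, Subsingleton (Dual.HD R ((DRing.LTensor R M).obj T.obj₂) (i + 1)) →
      Subsingleton (Dual.HD R ((DRing.LTensor R M).obj T.obj₃) i) →
      Subsingleton (Dual.HD R ((DRing.LTensor R M).obj T.obj₁) (i + 1))) := by
  obtain ⟨P, hP, -, ⟨eP⟩⟩ := DRingKProj.exists_isKProjective_iso T.obj₁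
  obtain ⟨Q, hQ, -, ⟨eQ⟩⟩ := DRingKProj.exists_isKProjective_iso T.obj₂
  haveI := hP
  haveI := hQ
  obtain ⟨g, hg⟩ := PCExt.Q_map_surjective_of_isKProjective P Q (eP.hom ≫ T.mor₁ ≫ eQ.inv)
  let e := isoTriangleOfIso₁₂ _ _ (DerivedCategory.mappingCone_triangle_distinguished g) hT eP eQ (by
    show DerivedCategory.Q.map g ≫ eQ.hom = eP.hom ≫ T.mor₁
    rw [show DerivedCategory.Q.map g = _ from hg]; simp)
  let G := ((tensorRight M).mapHomologicalComplex (ComplexShape.up ℤ))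
  obtain ⟨a₁⟩ := exists_lTensor_iso M (isKFl_of_isKProjective P)
  obtain ⟨a₂⟩ := exists_lTensor_iso M (isKFl_of_isKProjective Q)
  obtain ⟨a₃⟩ := exists_lTensor_iso M (isKFlat_cone g (isKFl_of_isKProjective P) (isKFl_of_isKProjective Q))
  let b₁ : (DRing.LTensor R M).obj T.obj₁ ≅ DerivedCategory.Q.obj (G.obj P) :=
    (DRing.LTensor R M).mapIso eP.symm ≪≫ a₁
  let b₂ : (DRing.LTensor R M).obj T.obj₂ ≅ DerivedCategory.Q.obj (G.obj Q) :=
    (DRing.LTensor R M).mapIso eQ.symm ≪≫ a₂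
  let b₃ : (DRing.LTensor R M).obj T.obj₃ ≅ DerivedCategory.Q.obj (CochainComplex.mappingCone (G.map g)) :=
    (DRing.LTensor R M).mapIso (Triangle.π₃.mapIso e).symm ≪≫ a₃ ≪≫
      DerivedCategory.Q.mapIso (CochainComplex.mappingCone.mapHomologicalComplexIso g (tensorRight M))
  have hd := DerivedCategory.mappingCone_triangle_distinguished (G.map g)
  simp only [subsingleton_HD_congr b₁, subsingleton_HD_congr b₂, subsingleton_HD_congr b₃, ← isZero_HD_iff]
  exact ⟨fun i h2 h1 => (DerivedCategory.HomologySequence.exact₃ _ hd i (i + 1) rfl).isZero_of_both_zeros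
      (h2.eq_of_src _ _) (h1.eq_of_tgt _ _),
    fun i h1 h3 => (DerivedCategory.HomologySequence.exact₂ _ hd i).isZero_of_both_zeros
      (h1.eq_of_src _ _) (h3.eq_of_tgt _ _),
    fun i h2 h3 => (DerivedCategory.HomologySequence.exact₁ _ hd i (i + 1) rfl).isZero_of_both_zeros
      (h3.eq_of_src _ _) (h2.eq_of_tgt _ _)⟩

theorem hasTorAmplitudeIn_mono {K : Dual.D R} {a b a' b' : ℤ} (h : DRing.HasTorAmplitudeIn R a b K) (ha : a' ≤ a)
    (hb : b ≤ b') : DRing.HasTorAmplitudeIn R a' b' K := by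
  obtain ⟨E, hE, hF, he⟩ := h
  exact ⟨E, fun i hi => hE i (by omega), hF, he⟩

theorem torAmp_obj₃ (T : Triangle (Dual.D R)) (hT : T ∈ distTriang _) {a b : ℤ}
    (h1 : DRing.HasTorAmplitudeIn R (a + 1) (b + 1) T.obj₁) (h2 : DRing.HasTorAmplitudeIn R a b T.obj₂) :
    DRing.HasTorAmplitudeIn R a b T.obj₃ := by
  haveI : ∀ N : ModuleCat.{u} R, DRing.HasLTensor R N := fun N => DRingKProj.hasLTensor N
  rw [hasTorAmplitudeIn_iff] at h1 h2 ⊢
  exact fun M i hi => (lTensor_vanish M T hT).1 i (h2 M i hi) (h1 M (i + 1) (by omega))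

theorem torAmp_obj₂ (T : Triangle (Dual.D R)) (hT : T ∈ distTriang _) {a b : ℤ}
    (h1 : DRing.HasTorAmplitudeIn R a b T.obj₁) (h3 : DRing.HasTorAmplitudeIn R a b T.obj₃) :
    DRing.HasTorAmplitudeIn R a b T.obj₂ := by
  haveI : ∀ N : ModuleCat.{u} R, DRing.HasLTensor R N := fun N => DRingKProj.hasLTensor N
  rw [hasTorAmplitudeIn_iff] at h1 h3 ⊢
  exact fun M i hi => (lTensor_vanish M T hT).2.1 i (h1 M i hi) (h3 M i hi)

theorem torAmp_obj₁ (T : Triangle (Dual.D R)) (hT : T ∈ distTriang _) {a b : ℤ}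
    (h2 : DRing.HasTorAmplitudeIn R (a + 1) (b + 1) T.obj₂) (h3 : DRing.HasTorAmplitudeIn R a b T.obj₃) :
    DRing.HasTorAmplitudeIn R (a + 1) (b + 1) T.obj₁ := by
  haveI : ∀ N : ModuleCat.{u} R, DRing.HasLTensor R N := fun N => DRingKProj.hasLTensor N
  rw [hasTorAmplitudeIn_iff] at h2 h3 ⊢
  intro M i hi
  obtain ⟨j, rfl⟩ : ∃ j, i = j + 1 := ⟨i - 1, by omega⟩
  exact (lTensor_vanish M T hT).2.2 j (h2 M (j + 1) hi) (h3 M j (by omega))

theorem isPseudoCoherent'_iff_forall (K : Dual.D R) :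
    DRing.IsPseudoCoherent' R K ↔ ∀ m, DRing.IsPseudoCoherent R m K :=
  ⟨DRingKProj.isPseudoCoherent_of_pseudoCoherent', DRingKProj.pseudoCoherent'_of_forall⟩

theorem isPerfect_obj₂ (T : Triangle (Dual.D R)) (hT : T ∈ distTriang _)
    (h1 : DRing.IsPerfect R T.obj₁) (h3 : DRing.IsPerfect R T.obj₃) : DRing.IsPerfect R T.obj₂ := by
  rw [isPerfect_iff, isPseudoCoherent'_iff_forall] at h1 h3 ⊢
  obtain ⟨h1, a, b, t1⟩ := h1
  obtain ⟨h3, c, d, t3⟩ := h3
  exact ⟨fun m => DRingKProj.isPseudoCoherent_obj₂ T hT m (h1 _) (h3 _), min a c, max b d,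
    torAmp_obj₂ T hT (hasTorAmplitudeIn_mono t1 (min_le_left _ _) (le_max_left _ _))
      (hasTorAmplitudeIn_mono t3 (min_le_right _ _) (le_max_right _ _))⟩

theorem isPerfect_obj₃ (T : Triangle (Dual.D R)) (hT : T ∈ distTriang _)
    (h1 : DRing.IsPerfect R T.obj₁) (h2 : DRing.IsPerfect R T.obj₂) : DRing.IsPerfect R T.obj₃ := by
  rw [isPerfect_iff, isPseudoCoherent'_iff_forall] at h1 h2 ⊢
  obtain ⟨h1, a, b, t1⟩ := h1
  obtain ⟨h2, c, d, t2⟩ := h2
  exact ⟨fun m => DRingKProj.isPseudoCoherent_obj₃ T hT m (h1 _) (h2 _), min (a - 1) c, max (b - 1) d,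
    torAmp_obj₃ T hT (hasTorAmplitudeIn_mono t1 (by omega) (by omega)) (hasTorAmplitudeIn_mono t2 (by omega) (by omega))⟩

theorem isPerfect_obj₁ (T : Triangle (Dual.D R)) (hT : T ∈ distTriang _)
    (h2 : DRing.IsPerfect R T.obj₂) (h3 : DRing.IsPerfect R T.obj₃) : DRing.IsPerfect R T.obj₁ := by
  rw [isPerfect_iff, isPseudoCoherent'_iff_forall] at h2 h3 ⊢
  obtain ⟨h2, a, b, t2⟩ := h2
  obtain ⟨h3, c, d, t3⟩ := h3
  refine ⟨fun m => ?_, min (a - 1) c + 1, max (b - 1) d + 1,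
    torAmp_obj₁ T hT (hasTorAmplitudeIn_mono t2 (by omega) (by omega)) (hasTorAmplitudeIn_mono t3 (by omega) (by omega))⟩
  have h := DRingKProj.isPseudoCoherent_obj₁ T hT (m - 1) (h2 _) (h3 _)
  rwa [sub_add_cancel] at h

end Groth.Agent.DRingTorAmp
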