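import Groth.Agent.DRingTorAmp.Change
import Groth.Agent.DRingRetract.PseudoCoh

/-!
# Direct summands of perfect objects
-/

universe u

open CategoryTheory Limits

namespace Groth.Agent.DRingTorAmp

attribute [local instance] HasDerivedCategory.standard

set_option linter.style.haveILetI false

variable {R : Type u} [CommRing R]

theorem hasTorAmplitudeIn_of_retract {K M : Dual.D R} (i : K ⟶ M) (r : M ⟶ K) (hir : i ≫ r = 𝟙 K) {a b : ℤ}
    (hM : DRing.HasTorAmplitudeIn R a b M) : DRing.HasTorAmplitudeIn R a b K := by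
  haveI : ∀ N : ModuleCat.{u} R, DRing.HasLTensor R N := fun N => DRingKProj.hasLTensor N
  rw [hasTorAmplitudeIn_iff] at hM ⊢
  intro N j hj
  let F := DRing.LTensor R N ⋙ DerivedCategory.homologyFunctor (ModuleCat.{u} R) j
  have h1 : Function.LeftInverse (F.map r).hom (F.map i).hom := fun x => by
    rw [← ModuleCat.comp_apply, ← F.map_comp, hir, F.map_id]; rfl
  haveI : Subsingleton (F.obj M) := hM N j hj
  exact h1.injective.subsingleton

theorem isPerfect_of_retract {K M : Dual.D R} (i : K ⟶ M) (r : M ⟶ K) (hir : i ≫ r = 𝟙 K)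
    (hM : DRing.IsPerfect R M) : DRing.IsPerfect R K := by
  rw [isPerfect_iff] at hM ⊢
  obtain ⟨h, a, b, hab⟩ := hM
  exact ⟨DRingRetract.isPseudoCoherent'_of_retract i r hir h, a, b, hasTorAmplitudeIn_of_retract i r hir hab⟩

end Groth.Agent.DRingTorAmp
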