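import Groth.Agent.DRingTorAmp.PCModules
import Groth.Agent.DRingTorAmp.Retract
import Groth.Agent.DRingTorAmp.Triangle
import Groth.Agent.DRingComplete.Closure

/-!
# Balance of derived tensor products and restriction of scalars
-/

universe u

open CategoryTheory Limits Pretriangulated MonoidalCategory HomologicalComplex
open scoped TensorProduct

namespace Groth.Agent.DRingTorAmp

attribute [local instance] HasDerivedCategory.standard

set_option linter.style.haveILetI false

open Groth.Agent.DRingKFlat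

variable {R : Type u} [CommRing R]

theorem exactAt_congr {K L : DRing.Cx R} (e : K ≅ L) (i : ℤ) : K.ExactAt i ↔ L.ExactAt i :=
  ⟨fun h => h.of_iso e, fun h => h.of_iso e.symm⟩

theorem exactAt_tensor_congr {P Q : DRing.Cx R} (hP : IsKFl P) (hQ : IsKFl Q) {K : Dual.D R}
    (eP : DRing.toD P ≅ K) (eQ : DRing.toD Q ≅ K) (M : ModuleCat.{u} R) (i : ℤ) :
    (DRing.tensorCx P M).ExactAt i ↔ (DRing.tensorCx Q M).ExactAt i := by
  haveI : DRing.HasLTensor R M := DRingKProj.hasLTensor M
  exact (subsingleton_lTensor_iff M hP eP i).symm.trans (subsingleton_lTensor_iff M hQ eQ i)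

/-- Balance: `M ⊗ᴸ N` is computed by a K-flat resolution of either factor. -/
theorem exactAt_balance {M N : ModuleCat.{u} R} {P L : DRing.Cx R} (hP : IsKFl P) (hL : IsKFl L)
    (eP : DRing.toD P ≅ Dual.inD R M) (eL : DRing.toD L ≅ Dual.inD R N) (i : ℤ) :
    (DRing.tensorCx P N).ExactAt i ↔ (DRing.tensorCx L M).ExactAt i := by
  let sM := (HomologicalComplex.single (ModuleCat.{u} R) (ComplexShape.up ℤ) 0).obj M
  let sN := (HomologicalComplex.single (ModuleCat.{u} R) (ComplexShape.up ℤ) 0).obj N
  obtain ⟨P', π, hP', hπ, -⟩ := DRingKProj.exists_resolution sM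
  obtain ⟨L', ρ, hL', hρ, -⟩ := DRingKProj.exists_resolution sN
  haveI := hP'
  haveI := hL'
  haveI : QuasiIso π := hπ
  haveI : QuasiIso ρ := hρ
  haveI : IsIso (DerivedCategory.Q.map π) := (DerivedCategory.isIso_Q_map_iff_quasiIso _ π).2 hπ
  haveI : IsIso (DerivedCategory.Q.map ρ) := (DerivedCategory.isIso_Q_map_iff_quasiIso _ ρ).2 hρ
  rw [exactAt_tensor_congr hP (isKFl_of_isKProjective P') eP
      (asIso (DerivedCategory.Q.map π) ≪≫ (inDIso M).symm),
    exactAt_tensor_congr hL (isKFl_of_isKProjective L') eL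
      (asIso (DerivedCategory.Q.map ρ) ≪≫ (inDIso N).symm),
    ← exactAt_congr (totSingleIso P' N), exactAt_congr (totBraidIso P' sN),
    ← exactAt_congr (totSingleIso L' M), exactAt_congr (totBraidIso L' sM)]
  have h₁ : QuasiIso (((tCx R).flip.obj P').map ρ) := quasiIso_tot_flip (isKFl_of_isKProjective P') ρ
  have h₂ : QuasiIso (((tCx R).flip.obj L').map π) := quasiIso_tot_flip (isKFl_of_isKProjective L') π
  exact ((@exactAt_iff_of_quasiIsoAt _ _ _ _ _ _ _ (((tCx R).flip.obj P').map ρ) i _ _ (h₁.quasiIsoAt i)).symm.trans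
    (exactAt_congr (totBraidIso L' P') i)).trans
    (@exactAt_iff_of_quasiIsoAt _ _ _ _ _ _ _ (((tCx R).flip.obj L').map π) i _ _ (h₂.quasiIsoAt i))

section Restrict

variable {S : Type u} [CommRing S] (φ : R →+* S)

theorem exact_cancelBaseChange [Algebra R S] (F : Type u) [AddCommGroup F] [Module R F] [Module S F]
    [IsScalarTower R S F] [Module.Flat S F] {X Y Z : Type u} [AddCommGroup X] [AddCommGroup Y] [AddCommGroup Z]
    [Module R X] [Module R Y] [Module R Z] (f : X →ₗ[R] Y) (g : Y →ₗ[R] Z)
    (h : Function.Exact (f.rTensor S) (g.rTensor S)) : Function.Exact (f.rTensor F) (g.rTensor F) := by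
  have h' : Function.Exact (f.baseChange S) (g.baseChange S) := by
    refine (Function.Exact.iff_of_ladder_linearEquiv
      (e₁ := TensorProduct.comm R X S) (e₂ := TensorProduct.comm R Y S) (e₃ := TensorProduct.comm R Z S)
      (f₁₂ := f.rTensor S) (f₂₃ := g.rTensor S)
      (g₁₂ := (f.baseChange S).restrictScalars R) (g₂₃ := (g.baseChange S).restrictScalars R)
      (TensorProduct.ext' fun x s => rfl) (TensorProduct.ext' fun x s => rfl)).2 h
  have h'' := Module.Flat.lTensor_exact F h'
  refine (Function.Exact.iff_of_ladder_linearEquiv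
    (e₁ := (TensorProduct.AlgebraTensorModule.cancelBaseChange R S S F X).restrictScalars R ≪≫ₗ
      TensorProduct.comm R F X)
    (e₂ := (TensorProduct.AlgebraTensorModule.cancelBaseChange R S S F Y).restrictScalars R ≪≫ₗ
      TensorProduct.comm R F Y)
    (e₃ := (TensorProduct.AlgebraTensorModule.cancelBaseChange R S S F Z).restrictScalars R ≪≫ₗ
      TensorProduct.comm R F Z)
    (f₁₂ := ((f.baseChange S).lTensor F).restrictScalars R) (f₂₃ := ((g.baseChange S).lTensor F).restrictScalars R)
    ?_ ?_).2 h''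
  · refine LinearMap.ext fun z => ?_
    induction z with
    | zero => simp
    | tmul a w =>
      induction w with
      | zero => simp
      | tmul s x => rfl
      | add x y hx hy => simp only [TensorProduct.tmul_add, map_add, hx, hy]
    | add x y hx hy => simp only [map_add, hx, hy]
  · refine LinearMap.ext fun z => ?_
    induction z with
    | zero => simp
    | tmul a w =>
      induction w with
      | zero => simp
      | tmul s x => rfl
      | add x y hx hy => simp only [TensorProduct.tmul_add, map_add, hx, hy]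
    | add x y hx hy => simp only [map_add, hx, hy]

/-- Flat modules over `S` have the tor amplitude of `S`. -/
theorem torAmp_of_flat {a b : ℤ} (hS : letI := φ.toAlgebra; DRing.HasTorAmplitudeIn R a b (Dual.inD R S))
    (F : ModuleCat.{u} S) [Module.Flat S F] :
    DRing.HasTorAmplitudeIn R a b
      ((DerivedCategory.singleFunctor (ModuleCat.{u} R) 0).obj ((ModuleCat.restrictScalars.{u} φ).obj F)) := by
  letI := φ.toAlgebra
  let G := (ModuleCat.restrictScalars.{u} φ).obj F
  show DRing.HasTorAmplitudeIn R a b (Dual.inD R G)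
  obtain ⟨P, π, hP, hπ, -⟩ := DRingKProj.exists_resolution
    ((HomologicalComplex.single (ModuleCat.{u} R) (ComplexShape.up ℤ) 0).obj G)
  haveI := hP
  haveI : IsIso (DerivedCategory.Q.map π) := (DerivedCategory.isIso_Q_map_iff_quasiIso _ π).2 hπ
  refine hasTorAmplitudeIn_of_exact (isKFl_of_isKProjective P) (asIso (DerivedCategory.Q.map π) ≪≫ (inDIso G).symm)
    fun N i hi => ?_
  obtain ⟨L, ρ, hL, hρ, -⟩ := DRingKProj.exists_resolution
    ((HomologicalComplex.single (ModuleCat.{u} R) (ComplexShape.up ℤ) 0).obj N)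
  haveI := hL
  haveI : IsIso (DerivedCategory.Q.map ρ) := (DerivedCategory.isIso_Q_map_iff_quasiIso _ ρ).2 hρ
  rw [exactAt_balance (M := G) (isKFl_of_isKProjective P) (isKFl_of_isKProjective L)
    (asIso (DerivedCategory.Q.map π) ≪≫ (inDIso G).symm) (asIso (DerivedCategory.Q.map ρ) ≪≫ (inDIso N).symm) i]
  obtain ⟨E, hEo, hEf, ⟨eE⟩⟩ := hS
  have hLS : (DRing.tensorCx L (ModuleCat.of R S)).ExactAt i :=
    (exactAt_balance (M := ModuleCat.of R S) (isKFl_of_flat (fun j hj => hEo j (Or.inr hj)) hEf)
      (isKFl_of_isKProjective L) eE (asIso (DerivedCategory.Q.map ρ) ≪≫ (inDIso N).symm) i).1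
      (exactAt_tensor_of_outside hEo N i hi)
  rw [exact_tensor_iff _ _ (i - 1) i (i + 1) (by omega) rfl] at hLS ⊢
  letI : Module R F := Module.compHom F φ
  haveI : IsScalarTower R S F := ⟨fun r s x => mul_smul (φ r) s x⟩
  exact exact_cancelBaseChange (R := R) (S := S) F _ _ hLS

/-- Restriction of a complex. -/
noncomputable def restrictQIso (E : DRing.Cx S) :
    (DRing.restrictD φ).obj (DRing.toD E) ≅ DRing.toD ((DRing.restrictCx φ).obj E) :=
  (ModuleCat.restrictScalars.{u} φ).mapDerivedCategoryFactors.app E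

theorem restrictCx_outside {E : DRing.Cx S} {a b : ℤ} (hE : DRing.VanishesOutside E a b) :
    DRing.VanishesOutside ((DRing.restrictCx φ).obj E) a b := fun i hi =>
  (ModuleCat.restrictScalars.{u} φ).map_isZero (hE i hi)

theorem torAmp_restrict {c d : ℤ}
    (hS : letI := φ.toAlgebra; DRing.HasTorAmplitudeIn R c d (Dual.inD R S))
    {K : Dual.D S} {a b : ℤ} (hK : DRing.HasTorAmplitudeIn S a b K) :
    DRing.HasTorAmplitudeIn R (a + c) (b + d) ((DRing.restrictD φ).obj K) := by
  obtain ⟨E, hEo, hEf, ⟨e⟩⟩ := hK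
  refine (torAmpProp (a + c) (b + d)).prop_of_iso ((restrictQIso φ E).symm ≪≫ (DRing.restrictD φ).mapIso e) ?_
  refine prop_of_terms (torAmpProp (a + c) (b + d)) (fun Z hZ => torAmp_of_isZero hZ _ _)
    (fun T hT h1 h3 => torAmp_obj₂ T hT h1 h3) (b + 1 - a).toNat _ a (fun i hi => ?_) fun i => ?_
  · exact restrictCx_outside φ hEo i (by omega)
  · by_cases hi : i < a ∨ b < i
    · exact torAmp_of_isZero ((DerivedCategory.singleFunctor _ i).map_isZero (restrictCx_outside φ hEo i hi)) _ _
    · haveI := hEf i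
      exact hasTorAmplitudeIn_single
        (M := ((DRing.restrictCx φ).obj E).X i) (hasTorAmplitudeIn_mono (torAmp_of_flat φ hS (E.X i)) (by omega) (by omega))

/-- A property of objects of `D(R)` closed under extensions and direct summands which holds for `S` holds for
every finite projective `S`-module. -/
theorem prop_finiteProjective (Q : ObjectProperty (Dual.D R)) [Q.IsClosedUnderIsomorphisms]
    (hz : ∀ Z, IsZero Z → Q Z) (hext : ∀ T ∈ distTriang (Dual.D R), Q T.obj₁ → Q T.obj₃ → Q T.obj₂)
    (hret : ∀ {K M : Dual.D R} (i : K ⟶ M) (r : M ⟶ K), i ≫ r = 𝟙 K → Q M → Q K)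
    (hS : letI := φ.toAlgebra; Q (Dual.inD R S)) (P : ModuleCat.{u} S) [Module.Finite S P] [Module.Projective S P] :
    Q ((DerivedCategory.singleFunctor (ModuleCat.{u} R) 0).obj ((ModuleCat.restrictScalars.{u} φ).obj P)) := by
  let G : ModuleCat.{u} S ⥤ Dual.D R :=
    ModuleCat.restrictScalars.{u} φ ⋙ DerivedCategory.singleFunctor (ModuleCat.{u} R) 0
  have hfree : ∀ n : ℕ, Q (G.obj (ModuleCat.of S (Fin n → S))) := by
    intro n
    induction n with
    | zero => exact hz _ (G.map_isZero (ModuleCat.isZero_of_subsingleton _))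
    | succ n ih =>
      haveI : PreservesBinaryBiproducts G := preservesBinaryBiproducts_of_preservesBiproducts _
      let e : G.obj (ModuleCat.of S S) ⊞ G.obj (ModuleCat.of S (Fin n → S)) ≅
          G.obj (ModuleCat.of S (Fin (n + 1) → S)) :=
        (G.mapBiprod (ModuleCat.of S S) (ModuleCat.of S (Fin n → S))).symm ≪≫
          G.mapIso (ModuleCat.biprodIsoProd _ _ ≪≫
            (Fin.consLinearEquiv S (fun _ : Fin (n + 1) => S)).toModuleIso)
      refine Q.prop_of_iso e (hext _ (binaryBiproductTriangle_distinguished _ _) ?_ ih)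
      letI := φ.toAlgebra
      letI : Module R (ModuleCat.of S S) := Module.compHom _ φ
      let e₀ : S ≃ₗ[R] (ModuleCat.of S S) := { AddEquiv.refl S with map_smul' := fun r x => rfl }
      let i : ModuleCat.of R S ≅ (ModuleCat.restrictScalars.{u} φ).obj (ModuleCat.of S S) := e₀.toModuleIso
      exact Q.prop_of_iso ((DerivedCategory.singleFunctor (ModuleCat.{u} R) 0).mapIso i) hS
  obtain ⟨n, f, hf⟩ := Module.Finite.exists_fin' S P
  obtain ⟨g, hg⟩ := Module.projective_lifting_property f LinearMap.id hf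
  let g' : P ⟶ ModuleCat.of S (Fin n → S) := ModuleCat.ofHom g
  let f' : ModuleCat.of S (Fin n → S) ⟶ P := ModuleCat.ofHom f
  exact hret (G.map g') (G.map f')
    (by rw [← G.map_comp, show g' ≫ f' = 𝟙 P from ModuleCat.hom_ext hg]; exact G.map_id P) (hfree n)

theorem isPerfect_restrict (hS : letI := φ.toAlgebra; DRing.IsPerfectModule R S) {K : Dual.D S}
    (hK : DRing.IsPerfect S K) : DRing.IsPerfect R ((DRing.restrictD φ).obj K) := by
  obtain ⟨E, a, b, hEo, hEf, ⟨e⟩⟩ := hK
  refine perfectProp.prop_of_iso ((restrictQIso φ E).symm ≪≫ (DRing.restrictD φ).mapIso e) ?_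
  refine prop_of_terms perfectProp (fun Z hZ => isPerfect_of_isZero hZ)
    (fun T hT h1 h3 => isPerfect_obj₂ T hT h1 h3) (b + 1 - a).toNat _ a (fun i hi => ?_) fun i => ?_
  · exact restrictCx_outside φ hEo i (by omega)
  · haveI := (hEf i).1
    haveI := (hEf i).2
    let X : ModuleCat.{u} R := ((DRing.restrictCx φ).obj E).X i
    have h : DRing.IsPerfectModule R X := prop_finiteProjective φ perfectProp (fun Z hZ => isPerfect_of_isZero hZ)
      (fun T hT h1 h3 => isPerfect_obj₂ T hT h1 h3) (fun i r h hM => isPerfect_of_retract i r h hM) hS (E.X i)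
    exact isPerfect_single h i

end Restrict

end Groth.Agent.DRingTorAmp
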