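import Groth.Agent.DRingTorAmp.Amplitude
import Mathlib.CategoryTheory.Abelian.Projective.Extend
import Mathlib.Algebra.Homology.Embedding.StupidTrunc
import Mathlib.Algebra.Category.ModuleCat.Projective

/-!
# Perfect modules have finite resolutions
-/

universe u

open CategoryTheory Limits

namespace Groth.Agent.DRingTorAmp

attribute [local instance] HasDerivedCategory.standard

set_option linter.style.haveILetI false

variable {R : Type u} [CommRing R]

/-- A complex in nonpositive degrees as an extension by zero. -/
noncomputable def extendRestrictionIso (E : DRing.Cx R) (hE : ∀ i : ℤ, 0 < i → IsZero (E.X i)) :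
    (E.restriction ComplexShape.embeddingDownNat).extend ComplexShape.embeddingDownNat ≅ E :=
  HomologicalComplex.Hom.isoOfComponents
    (fun n => if h : n ≤ 0 then
        HomologicalComplex.extendXIso _ ComplexShape.embeddingDownNat (show ComplexShape.embeddingDownNat.f (-n).toNat = n by simp; omega) ≪≫
          E.restrictionXIso ComplexShape.embeddingDownNat (by simp; omega)
      else IsZero.iso (HomologicalComplex.isZero_extend_X _ _ n (fun k => by simp; omega)) (hE n (by omega)))
    (fun i j hij => by
      simp at hij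
      by_cases hj : 0 < j
      · exact (hE j hj).eq_of_tgt _ _
      rw [dif_pos (show i ≤ 0 by omega), dif_pos (show j ≤ 0 by omega)]
      rw [HomologicalComplex.extend_d_eq _ ComplexShape.embeddingDownNat (i := (-i).toNat) (j := (-j).toNat)
        (by simp; omega) (by simp; omega),
        HomologicalComplex.restriction_d_eq (i := (-i).toNat) (j := (-j).toNat) E ComplexShape.embeddingDownNat
          (i' := i) (j' := j) (by simp; omega) (by simp; omega)]
      simp)

theorem exists_resolution_of_isPerfect (M : Type u) [AddCommGroup M] [Module R M] (hM : DRing.IsPerfectModule R M) :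
    ∃ (P : ProjectiveResolution (ModuleCat.of R M)) (d : ℕ),
      (∀ i : ℕ, d < i → IsZero (P.complex.X i)) ∧ ∀ i : ℕ, Module.Finite R (P.complex.X i) := by
  obtain ⟨E₀, a, b, hE₀, hF₀, ⟨e₀⟩⟩ := hM
  let eM := e₀ ≪≫ singleQIso 0 (ModuleCat.of R M)
  have hex : ∀ i, 0 < i → E₀.ExactAt i := fun i hi => by
    rw [← subsingleton_HD_iff, subsingleton_HD_congr eM i, subsingleton_HD_iff]
    rw [HomologicalComplex.exactAt_iff' _ (i - 1) i (i + 1) (by simp) (by simp)]
    exact ShortComplex.exact_of_isZero_X₂ _ (HomologicalComplex.isZero_single_obj_X (ComplexShape.up ℤ) 0 _ i (by omega))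
  haveI := quasiIso_capι hex
  haveI : IsIso (DerivedCategory.Q.map (capι E₀ 0)) := (DerivedCategory.isIso_Q_map_iff_quasiIso _ _).2 inferInstance
  let E := cap E₀ 0
  have hE : ∀ i, 0 < i → IsZero (E.X i) := fun i hi => cap_isZero (Or.inl hi)
  have hF : DRing.TermwiseFiniteProjective E := cap_finiteProjective (fun i hi => hE₀ i (Or.inr hi)) hF₀ hex
  haveI : ∀ n, Projective (E.X n) := fun n => by
    haveI := (hF n).2
    exact inferInstance
  haveI : CochainComplex.IsStrictlyLE E 0 := by
    rw [CochainComplex.isStrictlyLE_iff]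
    exact hE
  haveI : E.IsKProjective := CochainComplex.isKProjective_of_projective _ 0
  let S := (HomologicalComplex.single (ModuleCat.{u} R) (ComplexShape.up ℤ) 0).obj (ModuleCat.of R M)
  obtain ⟨φ, hφ⟩ := PCExt.Q_map_surjective_of_isKProjective E S (DerivedCategory.Q.map (capι E₀ 0) ≫ eM.hom)
  haveI : QuasiIso φ := (DerivedCategory.isIso_Q_map_iff_quasiIso _ φ).1 (by
    rw [show DerivedCategory.Q.map φ = _ from hφ]; infer_instance)
  let C : ChainComplex (ModuleCat.{u} R) ℕ := E.restriction ComplexShape.embeddingDownNat
  let ψ : C.extend ComplexShape.embeddingDownNat ⟶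
      (((ChainComplex.single₀ (ModuleCat.{u} R)).obj (ModuleCat.of R M)).extend ComplexShape.embeddingDownNat) :=
    (extendRestrictionIso E hE).hom ≫ φ ≫
      (HomologicalComplex.extendSingleIso ComplexShape.embeddingDownNat (ModuleCat.of R M) _ _ (by simp)).inv
  let π := (ComplexShape.embeddingDownNat.fullyFaithfulExtendFunctor (ModuleCat.{u} R)).preimage ψ
  have hπ : HomologicalComplex.extendMap π ComplexShape.embeddingDownNat = ψ :=
    (ComplexShape.embeddingDownNat.fullyFaithfulExtendFunctor (ModuleCat.{u} R)).map_preimage ψ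
  have hq : QuasiIso π := by
    rw [← HomologicalComplex.quasiIso_extendMap_iff π ComplexShape.embeddingDownNat, hπ]
    infer_instance
  haveI : ∀ n, Projective (C.X n) := fun n => inferInstanceAs (Projective (E.X _))
  refine ⟨{ complex := C, π := π, quasiIso := hq }, (-a).toNat, fun i hi => ?_, fun i => (hF _).1⟩
  exact cap_isZero (Or.inr (hE₀ _ (Or.inl (by simp; omega))))

theorem isPerfect_of_resolution {M : Type u} [AddCommGroup M] [Module R M] (P : ProjectiveResolution (ModuleCat.of R M))
    (d : ℕ) (hd : ∀ i : ℕ, d < i → IsZero (P.complex.X i)) (hfin : ∀ i : ℕ, Module.Finite R (P.complex.X i)) :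
    DRing.IsPerfectModule R M := by
  haveI : IsIso (DerivedCategory.Q.map P.π') := (DerivedCategory.isIso_Q_map_iff_quasiIso _ _).2 inferInstance
  refine ⟨P.cochainComplex, -(d : ℤ), 0, fun i hi => ?_, fun i => ?_,
    ⟨asIso (DerivedCategory.Q.map P.π') ≪≫ (singleQIso 0 (ModuleCat.of R M)).symm⟩⟩
  · rcases hi with hi | hi
    · exact (hd (-i).toNat (by omega)).of_iso (P.cochainComplexXIso i (-i).toNat (by omega))
    · exact CochainComplex.isZero_of_isStrictlyLE _ 0 _ hi
  · refine ⟨?_, (IsProjective.iff_projective (R := R) (P.cochainComplex.X i)).2 (inferInstanceAs (Projective (P.cochainComplex.X i)))⟩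
    by_cases hi : i ≤ 0
    · haveI := hfin (-i).toNat
      exact Module.Finite.equiv (P.cochainComplexXIso i (-i).toNat (by omega)).toLinearEquiv.symm
    · haveI := ModuleCat.subsingleton_of_isZero (CochainComplex.isZero_of_isStrictlyLE P.cochainComplex 0 i (by omega))
      infer_instance

end Groth.Agent.DRingTorAmp
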