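import Groth.Agent.DRingTorAmp.Restrict
import Groth.Agent.DRingTorAmp.Amplitude
import Groth.Agent.DRingTorAmp.Resolution
import Mathlib.CategoryTheory.Monoidal.Tor

/-!
# Tor dimension of modules
-/

universe u

open CategoryTheory Limits MonoidalCategory HomologicalComplex
open scoped TensorProduct

namespace Groth.Agent.DRingTorAmp

attribute [local instance] HasDerivedCategory.standard

set_option linter.style.haveILetI false

variable {R : Type u} [CommRing R] (M : Type u) [AddCommGroup M] [Module R M]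

theorem exact_chain_iff {N : ModuleCat.{u} R} (P : ProjectiveResolution N) (p : ℕ) (hp : 1 ≤ p) :
    Subsingleton ((((tensoringLeft (ModuleCat.{u} R)).obj (ModuleCat.of R M)).leftDerived p).obj N) ↔
      (DRing.tensorCx P.cochainComplex (ModuleCat.of R M)).ExactAt (-(p : ℤ)) := by
  obtain ⟨q, rfl⟩ : ∃ q, p = q + 1 := ⟨p - 1, by omega⟩
  let C := (((tensoringLeft (ModuleCat.{u} R)).obj (ModuleCat.of R M)).mapHomologicalComplex (ComplexShape.down ℕ)).obj P.complex
  rw [(P.isoLeftDerivedObj ((tensoringLeft (ModuleCat.{u} R)).obj (ModuleCat.of R M)) (q + 1)).toLinearEquiv.toEquiv.subsingleton_congr,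
    exact_tensor_iff _ _ (-((q + 2 : ℕ) : ℤ)) (-((q + 1 : ℕ) : ℤ)) (-(q : ℤ)) (by omega) (by omega)]
  have h1 : Subsingleton ((HomologicalComplex.homologyFunctor (ModuleCat.{u} R) (ComplexShape.down ℕ) (q + 1)).obj C) ↔
      C.ExactAt (q + 1) :=
    ⟨fun h => (C.exactAt_iff_isZero_homology _).2 (@ModuleCat.isZero_of_subsingleton _ _ _ h),
      fun h => ModuleCat.subsingleton_of_isZero ((C.exactAt_iff_isZero_homology _).1 h)⟩
  rw [h1, C.exactAt_iff' (q + 2) (q + 1) q (by simp) (by simp),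
    ShortComplex.ShortExact.moduleCat_exact_iff_function_exact]
  let e : ∀ k : ℕ, P.cochainComplex.X (-(k : ℤ)) ⊗[R] M ≃ₗ[R] M ⊗[R] P.complex.X k := fun k =>
    TensorProduct.congr (P.cochainComplexXIso (-(k : ℤ)) k rfl).toLinearEquiv (LinearEquiv.refl R M) ≪≫ₗ
      TensorProduct.comm R _ _
  have he : ∀ i j : ℕ, (P.complex.d i j).hom.lTensor M ∘ₗ (e i).toLinearMap =
      (e j).toLinearMap ∘ₗ (P.cochainComplex.d (-(i : ℤ)) (-(j : ℤ))).hom.rTensor M := fun i j => by
    refine TensorProduct.ext' fun x m => ?_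
    have h := P.cochainComplex_d (-(i : ℤ)) (-(j : ℤ)) i j rfl rfl
    show m ⊗ₜ[R] (P.complex.d i j) ((P.cochainComplexXIso (-(i : ℤ)) i rfl).hom x) =
      m ⊗ₜ[R] ((P.cochainComplexXIso (-(j : ℤ)) j rfl).hom ((P.cochainComplex.d (-(i : ℤ)) (-(j : ℤ))) x))
    rw [h]
    simp
  exact Function.Exact.iff_of_ladder_linearEquiv (e₁ := e (q + 2)) (e₂ := e (q + 1)) (e₃ := e q)
    (f₁₂ := (P.cochainComplex.d _ _).hom.rTensor M) (f₂₃ := (P.cochainComplex.d _ _).hom.rTensor M)
    (g₁₂ := (P.complex.d (q + 2) (q + 1)).hom.lTensor M) (g₂₃ := (P.complex.d (q + 1) q).hom.lTensor M)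
    (he _ _) (he _ _)

theorem hasTorDimLE_iff (d : ℕ) :
    DRing.HasTorDimLE R d M ↔ DRing.HasTorAmplitudeIn R (-(d : ℤ)) 0 (Dual.inD R M) := by
  obtain ⟨Q, π, hQ, hπ, -⟩ := DRingKProj.exists_resolution
    ((HomologicalComplex.single (ModuleCat.{u} R) (ComplexShape.up ℤ) 0).obj (ModuleCat.of R M))
  haveI := hQ
  haveI : IsIso (DerivedCategory.Q.map π) := (DerivedCategory.isIso_Q_map_iff_quasiIso _ π).2 hπ
  let eQ : DRing.toD Q ≅ Dual.inD R M := asIso (DerivedCategory.Q.map π) ≪≫ (inDIso M).symm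
  have key : ∀ {N : ModuleCat.{u} R} (P : ProjectiveResolution N) (i : ℤ),
      (DRing.tensorCx Q N).ExactAt i ↔ (DRing.tensorCx P.cochainComplex (ModuleCat.of R M)).ExactAt i := by
    intro N P i
    haveI : P.cochainComplex.IsKProjective := CochainComplex.isKProjective_of_projective _ 0
    haveI : IsIso (DerivedCategory.Q.map P.π') := (DerivedCategory.isIso_Q_map_iff_quasiIso _ _).2 inferInstance
    exact exactAt_balance (M := ModuleCat.of R M) (isKFl_of_isKProjective Q) (isKFl_of_isKProjective P.cochainComplex) eQ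
      (asIso (DerivedCategory.Q.map P.π') ≪≫ (inDIso N).symm) i
  constructor
  · intro h
    refine hasTorAmplitudeIn_of_exact (isKFl_of_isKProjective Q) eQ fun N i hi => ?_
    let P := projectiveResolution N
    rw [key P i]
    rcases hi with hi | hi
    · obtain ⟨p, rfl⟩ : ∃ p : ℕ, i = -(p : ℤ) := ⟨(-i).toNat, by omega⟩
      exact (exact_chain_iff M P p (by omega)).1 (h N p (by omega))
    · rw [(DRing.tensorCx P.cochainComplex (ModuleCat.of R M)).exactAt_iff' (i - 1) i (i + 1) (by simp) (by simp)]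
      exact ShortComplex.exact_of_isZero_X₂ _
        ((tensorRight (ModuleCat.of R M)).map_isZero (CochainComplex.isZero_of_isStrictlyLE _ 0 _ hi))
  · intro h N _ _ p hp
    let P := projectiveResolution (ModuleCat.of R N)
    exact (exact_chain_iff M P p (by omega)).2 ((key P _).1
      (exactAt_of_hasTorAmplitudeIn h (isKFl_of_isKProjective Q) eQ (ModuleCat.of R N) _ (Or.inl (by omega))))

theorem torAmp_flat [Module.Flat R M] : DRing.HasTorAmplitudeIn R 0 0 (Dual.inD R M) := by
  refine ⟨_, fun i hi => HomologicalComplex.isZero_single_obj_X (ComplexShape.up ℤ) 0 _ i (by omega), fun i => ?_,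
    ⟨(inDIso M).symm⟩⟩
  by_cases hi : i = 0
  · subst hi
    exact Module.Flat.of_linearEquiv (HomologicalComplex.singleObjXSelf (ComplexShape.up ℤ) 0 (ModuleCat.of R M)).toLinearEquiv
  · haveI := ModuleCat.subsingleton_of_isZero
      (HomologicalComplex.isZero_single_obj_X (ComplexShape.up ℤ) 0 (ModuleCat.of R M) i hi)
    infer_instance

end Groth.Agent.DRingTorAmp
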