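import Groth.Agent.DRingTorAmp.Restrict

/-!
# Pseudo-coherence and restriction of scalars
-/

universe u

open CategoryTheory Limits Pretriangulated

namespace Groth.Agent.DRingTorAmp

attribute [local instance] HasDerivedCategory.standard

set_option linter.style.haveILetI false

open Groth.Agent.DRingKProj

variable {R : Type u} [CommRing R] {S : Type u} [CommRing S] (φ : R →+* S)

/-- Pseudo-coherent objects. -/
def pcAllProp : ObjectProperty (Dual.D R) := fun K => ∀ m : ℤ, DRing.IsPseudoCoherent R m K

instance : (pcAllProp (R := R)).IsClosedUnderIsomorphisms :=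
  ⟨fun {_ _} e h m => isPseudoCoherent_of_iso e (h m)⟩

theorem pcAll_zero {Z : Dual.D R} (hZ : IsZero Z) : pcAllProp Z := fun _ =>
  isPseudoCoherent_of_vanishGE fun i _ => (DerivedCategory.homologyFunctor _ i).map_isZero hZ

theorem pcAll_ext (T : Triangle (Dual.D R)) (hT : T ∈ distTriang _) (h₁ : pcAllProp T.obj₁) (h₃ : pcAllProp T.obj₃) :
    pcAllProp T.obj₂ := fun m => isPseudoCoherent_obj₂ T hT m (h₁ m) (h₃ m)

theorem vanishGE_restrict {m : ℤ} {K : Dual.D S} (h : VanishGE m K) : VanishGE m ((DRing.restrictD φ).obj K) :=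
  fun i hi => ((ModuleCat.restrictScalars.{u} φ).map_isZero (h i hi)).of_iso
    (DRingComplete.restrictHDIso φ K i)

theorem pcAll_restrict_toD (hS : letI := φ.toAlgebra; DRing.IsPseudoCoherentModule' R S) {E : DRing.Cx S} {a b : ℤ}
    (hEo : DRing.VanishesOutside E a b) (hEf : DRing.TermwiseFiniteFree E) :
    pcAllProp ((DRing.restrictD φ).obj (DRing.toD E)) := by
  refine pcAllProp.prop_of_iso (restrictQIso φ E).symm ?_
  refine prop_of_terms pcAllProp (fun Z hZ => pcAll_zero hZ) pcAll_ext (b + 1 - a).toNat _ a (fun i hi => ?_) fun i => ?_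
  · exact restrictCx_outside φ hEo i (by omega)
  · haveI := (hEf i).1
    haveI := (hEf i).2
    intro m
    let X : ModuleCat.{u} R := ((DRing.restrictCx φ).obj E).X i
    have h : DRing.IsPseudoCoherentModule R (m - i) X :=
      prop_finiteProjective φ pcAllProp (fun Z hZ => pcAll_zero hZ) pcAll_ext
        (fun j r h hM k => DRingRetract.isPseudoCoherent_of_retract j r h (hM k))
        (fun k => isPseudoCoherent_of_pseudoCoherent' hS k) (E.X i) (m - i)
    exact isPseudoCoherent_single (M := (X : Type u)) i h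

theorem isPseudoCoherent_restrict (hS : letI := φ.toAlgebra; DRing.IsPseudoCoherentModule' R S) {m : ℤ}
    {K : Dual.D S} (hK : DRing.IsPseudoCoherent S m K) :
    DRing.IsPseudoCoherent R m ((DRing.restrictD φ).obj K) := by
  obtain ⟨E, a, b, α, hEo, hEf, hα⟩ := hK
  obtain ⟨C, g, δ, hT⟩ := distinguished_cocone_triangle α
  have hC : VanishGE m C := (isoAbove_mor₁_iff _ hT m).1 hα
  exact isPseudoCoherent_obj₂ _ ((DRing.restrictD φ).map_distinguished _ hT) m
    (pcAll_restrict_toD φ hS hEo hEf m) (isPseudoCoherent_of_vanishGE (vanishGE_restrict φ hC))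

theorem isPseudoCoherent_of_restrict (hS : letI := φ.toAlgebra; DRing.IsPseudoCoherentModule' R S) (m : ℤ) :
    ∀ (n : ℕ) (K : Dual.D S), VanishGE (m + n) K → DRing.IsPseudoCoherent R m ((DRing.restrictD φ).obj K) →
      DRing.IsPseudoCoherent S m K
  | 0, K, hv, _ => isPseudoCoherent_of_vanishGE fun i hi => hv i (by omega)
  | n + 1, K, hv, hK => by
    let b : ℤ := m + n
    have hv' : VanishGE (b + 1) K := fun i hi => hv i (by push_cast; omega)
    have hfinR : Module.Finite R ((DerivedCategory.homologyFunctor (ModuleCat.{u} R) b).obj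
        ((DRing.restrictD φ).obj K)) :=
      (finite_homology (isPseudoCoherent_mono (show m ≤ b by omega) hK)).1
        fun i hi => vanishGE_restrict φ hv' i (by omega)
    have hfin : Module.Finite S ((DerivedCategory.homologyFunctor (ModuleCat.{u} S) b).obj K) := by
      letI := φ.toAlgebra
      let H := (DerivedCategory.homologyFunctor (ModuleCat.{u} S) b).obj K
      letI : Module R H := Module.compHom H φ
      haveI : IsScalarTower R S H := ⟨fun r s x => mul_smul (φ r) s x⟩
      haveI : Module.Finite R H :=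
        @Module.Finite.equiv _ _ _ _ _ _ _ _ hfinR (DRingComplete.restrictHDIso φ K b).toLinearEquiv
      exact Module.Finite.of_restrictScalars_finite R S H
    obtain ⟨F, f, hFo, hFf, hf⟩ := DRingRetract.exists_cover K hv' hfin
    obtain ⟨C, g, δ, hT⟩ := distinguished_cocone_triangle f
    refine isPseudoCoherent_obj₂ _ hT m (isPseudoCoherent_toD hFo hFf m)
      (isPseudoCoherent_of_restrict hS m n C ((isoAbove_mor₁_iff _ hT b).1 hf) ?_)
    exact isPseudoCoherent_obj₃ _ ((DRing.restrictD φ).map_distinguished _ hT) m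
      (pcAll_restrict_toD φ hS hFo hFf (m + 1)) hK

theorem isPseudoCoherent_restrict_iff (hS : letI := φ.toAlgebra; DRing.IsPseudoCoherentModule' R S) (m : ℤ)
    (K : Dual.D S) : DRing.IsPseudoCoherent S m K ↔ DRing.IsPseudoCoherent R m ((DRing.restrictD φ).obj K) := by
  refine ⟨isPseudoCoherent_restrict φ hS, fun h => ?_⟩
  obtain ⟨b, hb⟩ := exists_vanishGE h
  refine isPseudoCoherent_of_restrict φ hS m (b + 1 - m).toNat K (fun i hi => ?_) h
  have h' := (hb i (by omega)).of_iso (DRingComplete.restrictHDIso φ K i).symm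
  let H := (DerivedCategory.homologyFunctor (ModuleCat.{u} S) i).obj K
  have hs0 := ModuleCat.subsingleton_of_isZero h'
  have hs : Subsingleton H := hs0
  exact @ModuleCat.isZero_of_subsingleton _ _ H hs

end Groth.Agent.DRingTorAmp
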