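import Groth.Agent.DRingTorAmp.Criterion
import Groth.Agent.DRingKProj.PCIff
import Groth.Agent.DCohBridge.RingBC
import Mathlib.RingTheory.Flat.Stability
import Mathlib.RingTheory.Flat.FaithfullyFlat.Basic
import Mathlib.RingTheory.TensorProduct.Finite
import Mathlib.Algebra.Homology.DerivedCategory.SingleTriangle
import Mathlib.RingTheory.Flat.EquationalCriterion

/-!
# Base change of perfect complexes and of tor amplitude
-/

universe u

open CategoryTheory Limits MonoidalCategory HomologicalComplex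
open scoped TensorProduct

namespace Groth.Agent.DRingTorAmp

attribute [local instance] HasDerivedCategory.standard

set_option linter.style.haveILetI false

open Groth.Agent.DRingKFlat

variable {R : Type u} [CommRing R] {S : Type u} [CommRing S]

/-- Termwise base change. -/
noncomputable abbrev escCx (φ : R →+* S) : DRing.Cx R ⥤ DRing.Cx S :=
  (ModuleCat.extendScalars.{u, u, u} φ).mapHomologicalComplex (ComplexShape.up ℤ)

theorem esc_flat (φ : R →+* S) {E : DRing.Cx R} (hE : DRing.TermwiseFlat E) :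
    DRing.TermwiseFlat ((escCx φ).obj E) := fun i => by
  letI := φ.toAlgebra
  haveI := hE i
  exact inferInstanceAs (Module.Flat S (S ⊗[R] E.X i))

theorem esc_finiteProjective (φ : R →+* S) {E : DRing.Cx R} (hE : DRing.TermwiseFiniteProjective E) :
    DRing.TermwiseFiniteProjective ((escCx φ).obj E) := fun i => by
  letI := φ.toAlgebra
  haveI := (hE i).1
  haveI := (hE i).2
  exact ⟨inferInstanceAs (Module.Finite S (S ⊗[R] E.X i)), inferInstanceAs (Module.Projective S (S ⊗[R] E.X i))⟩

theorem esc_outside (φ : R →+* S) {E : DRing.Cx R} {a b : ℤ} (hE : DRing.VanishesOutside E a b) :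
    DRing.VanishesOutside ((escCx φ).obj E) a b := fun i hi =>
  (ModuleCat.extendScalars.{u, u, u} φ).map_isZero (hE i hi)

theorem flat_of_finiteProjective {E : DRing.Cx R} (hE : DRing.TermwiseFiniteProjective E) : DRing.TermwiseFlat E :=
  fun i => haveI := (hE i).2; inferInstance

theorem hasTorAmplitudeIn_lBaseChange (φ : R →+* S) [DRing.HasLBaseChange φ] {K : Dual.D R} {a b : ℤ}
    (hK : DRing.HasTorAmplitudeIn R a b K) : DRing.HasTorAmplitudeIn S a b ((DRing.LBaseChange φ).obj K) := by
  obtain ⟨E, hE, hF, ⟨e⟩⟩ := hK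
  obtain ⟨e'⟩ := exists_lBaseChange_iso φ (isKFl_of_flat (fun i hi => hE i (Or.inr hi)) hF)
  exact ⟨(escCx φ).obj E, esc_outside φ hE, esc_flat φ hF, ⟨e'.symm ≪≫ (DRing.LBaseChange φ).mapIso e⟩⟩

theorem isPerfect_lBaseChange (φ : R →+* S) [DRing.HasLBaseChange φ] {K : Dual.D R}
    (hK : DRing.IsPerfect R K) : DRing.IsPerfect S ((DRing.LBaseChange φ).obj K) := by
  obtain ⟨E, a, b, hE, hF, ⟨e⟩⟩ := hK
  obtain ⟨e'⟩ := exists_lBaseChange_iso φ
    (isKFl_of_flat (fun i hi => hE i (Or.inr hi)) (flat_of_finiteProjective hF))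
  exact ⟨(escCx φ).obj E, a, b, esc_outside φ hE, esc_finiteProjective φ hF,
    ⟨e'.symm ≪≫ (DRing.LBaseChange φ).mapIso e⟩⟩

section Flat

variable {φ : R →+* S} (hφ : φ.Flat)

include hφ in
theorem esc_exactAt {C : DRing.Cx R} {i : ℤ} (h : C.ExactAt i) : ((escCx φ).obj C).ExactAt i := by
  letI := φ.toAlgebra
  haveI : Module.Flat R S := hφ
  rw [exact_d_iff _ (i - 1) i (i + 1) (by omega) rfl] at h ⊢
  exact Module.Flat.lTensor_exact S h

include hφ in
theorem quasiIso_esc {K L : DRing.Cx R} (f : K ⟶ L) [QuasiIso f] : QuasiIso ((escCx φ).map f) :=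
  quasiIso_of_cone_acyclic _ (acyclic_of_iso
    (CochainComplex.mappingCone.mapHomologicalComplexIso f (ModuleCat.extendScalars.{u, u, u} φ))
    fun i => esc_exactAt hφ (cone_acyclic_of_quasiIso f i))

include hφ in
theorem exists_esc_iso {K L : DRing.Cx R} (e : DRing.toD K ≅ DRing.toD L) :
    Nonempty (DRing.toD ((escCx φ).obj K) ≅ DRing.toD ((escCx φ).obj L)) := by
  obtain ⟨P, π, hP, hπ, -⟩ := DRingKProj.exists_resolution K
  haveI := hP
  haveI := hπ
  obtain ⟨g, hg⟩ := PCExt.Q_map_surjective_of_isKProjective P L (DerivedCategory.Q.map π ≫ e.hom)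
  haveI : IsIso (DerivedCategory.Q.map π) := (DerivedCategory.isIso_Q_map_iff_quasiIso _ π).2 hπ
  haveI : IsIso (DerivedCategory.Q.map g) := by
    rw [show DerivedCategory.Q.map g = _ from hg]; infer_instance
  haveI : QuasiIso g := (DerivedCategory.isIso_Q_map_iff_quasiIso _ g).1 inferInstance
  haveI := quasiIso_esc hφ π
  haveI := quasiIso_esc hφ g
  exact ⟨(asIso (DerivedCategory.Q.map ((escCx φ).map π))).symm ≪≫
    asIso (DerivedCategory.Q.map ((escCx φ).map g))⟩

/-- `M[0]` as the image of a complex. -/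
noncomputable def inDIso (M : Type u) [AddCommGroup M] [Module R M] :
    Dual.inD R M ≅ DRing.toD ((HomologicalComplex.single (ModuleCat.{u} R) (ComplexShape.up ℤ) 0).obj (ModuleCat.of R M)) :=
  ((SingleFunctors.evaluation _ _ 0).mapIso (DerivedCategory.singleFunctorsPostcompQIso (ModuleCat.{u} R))).app
    (ModuleCat.of R M)

include hφ in
theorem exists_inD_esc_iso (M : Type u) [AddCommGroup M] [Module R M] {E : DRing.Cx R}
    (e : DRing.toD E ≅ Dual.inD R M) :
    letI := φ.toAlgebra
    Nonempty (DRing.toD ((escCx φ).obj E) ≅ Dual.inD S (S ⊗[R] M)) := by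
  letI := φ.toAlgebra
  obtain ⟨e'⟩ := exists_esc_iso hφ (e ≪≫ inDIso M)
  let i : (ModuleCat.extendScalars.{u, u, u} φ).obj (ModuleCat.of R M) ≅ ModuleCat.of S (S ⊗[R] M) :=
    LinearEquiv.toModuleIso (LinearEquiv.refl S (S ⊗[R] M))
  exact ⟨e' ≪≫ DerivedCategory.Q.mapIso
    ((HomologicalComplex.singleMapHomologicalComplex (ModuleCat.extendScalars.{u, u, u} φ)
      (ComplexShape.up ℤ) 0).app (ModuleCat.of R M) ≪≫ (HomologicalComplex.single _ _ 0).mapIso i) ≪≫ (inDIso _).symm⟩

end Flat

theorem hasTorAmplitudeIn_descent (φ : R →+* S) (hφ : letI := φ.toAlgebra; Module.FaithfullyFlat R S)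
    (K : DRing.Cx R) (a b : ℤ)
    (hK : DRing.HasTorAmplitudeIn S a b (DRing.toD ((escCx φ).obj K))) :
    DRing.HasTorAmplitudeIn R a b (DRing.toD K) := by
  letI := φ.toAlgebra
  haveI := hφ
  obtain ⟨P, π, hP, hπ, -⟩ := DRingKProj.exists_resolution K
  haveI := hP
  haveI := hπ
  haveI : IsIso (DerivedCategory.Q.map π) := (DerivedCategory.isIso_Q_map_iff_quasiIso _ π).2 hπ
  haveI := quasiIso_esc (φ := φ) (inferInstanceAs (Module.Flat R S)) π
  haveI : IsIso (DerivedCategory.Q.map ((escCx φ).map π)) :=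
    (DerivedCategory.isIso_Q_map_iff_quasiIso _ _).2 inferInstance
  refine hasTorAmplitudeIn_of_exact (isKFl_of_isKProjective P) (asIso (DerivedCategory.Q.map π)) fun M i hi => ?_
  have h := exactAt_of_hasTorAmplitudeIn hK
    (DCohBridge.isKFlat_baseChange φ (isKFl_of_isKProjective P))
    (asIso (DerivedCategory.Q.map ((escCx φ).map π))) (ModuleCat.of S (S ⊗[R] M)) i hi
  rw [exact_tensor_iff _ _ (i - 1) i (i + 1) (by omega) rfl] at h ⊢
  refine (Module.FaithfullyFlat.lTensor_exact_iff_exact R S _ _).1 ?_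
  exact (Function.Exact.iff_of_ladder_linearEquiv
    (e₁ := (TensorProduct.AlgebraTensorModule.distribBaseChange R S (P.X (i - 1)) M).restrictScalars R)
    (e₂ := (TensorProduct.AlgebraTensorModule.distribBaseChange R S (P.X i) M).restrictScalars R)
    (e₃ := (TensorProduct.AlgebraTensorModule.distribBaseChange R S (P.X (i + 1)) M).restrictScalars R)
    (g₁₂ := (((P.d (i - 1) i).hom.baseChange S).rTensor (S ⊗[R] M)).restrictScalars R)
    (g₂₃ := (((P.d i (i + 1)).hom.baseChange S).rTensor (S ⊗[R] M)).restrictScalars R)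
    (TensorProduct.ext' fun s x => by
      induction x with
      | zero => simp
      | tmul p m => rfl
      | add x y hx hy => simp only [TensorProduct.tmul_add, map_add, hx, hy])
    (TensorProduct.ext' fun s x => by
      induction x with
      | zero => simp
      | tmul p m => rfl
      | add x y hx hy => simp only [TensorProduct.tmul_add, map_add, hx, hy])).1 h

theorem exists_toAlgebra (i : Algebra R S) : ∃ φ : R →+* S, φ.toAlgebra = i :=
  ⟨@algebraMap R S _ _ i, Algebra.algebra_ext _ _ fun _ => rfl⟩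

theorem isPerfect_iff (K : Dual.D R) :
    DRing.IsPerfect R K ↔ DRing.IsPseudoCoherent' R K ∧ DRing.HasFiniteTorDimCx R K := by
  constructor
  · rintro ⟨E, a, b, hE, hF, ⟨e⟩⟩
    refine ⟨?_, a, b, E, hE, flat_of_finiteProjective hF, ⟨e⟩⟩
    obtain ⟨F, c, h1, h2, ⟨e'⟩⟩ := DRingKProj.pseudoCoherent'_of_projective (fun i hi => hE i (Or.inr hi)) hF
    exact ⟨F, c, h1, h2, ⟨e' ≪≫ e⟩⟩
  · rintro ⟨⟨E, c, hE, hF, ⟨e⟩⟩, a, b, hab⟩
    have hfl : DRing.TermwiseFlat E := fun i => haveI := (hF i).2; inferInstance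
    have hex : ∀ (M : ModuleCat.{u} R) (i : ℤ), i < a → (DRing.tensorCx E M).ExactAt i :=
      fun M i hi => exactAt_of_hasTorAmplitudeIn hab (isKFl_of_flat hE hfl) e M i (Or.inl hi)
    haveI := quasiIso_cutπ (a := a) fun i hi => (exactAt_tensor_unit_iff E i).1 (hex _ i hi)
    haveI : IsIso (DerivedCategory.Q.map (cutπ E a)) := (DerivedCategory.isIso_Q_map_iff_quasiIso _ _).2 inferInstance
    refine ⟨cut E a, a, c, fun i hi => cut_isZero (hi.imp_right (hE i)), fun i => ?_,
      ⟨(asIso (DerivedCategory.Q.map (cutπ E a))).symm ≪≫ e⟩⟩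
    have hflat : Module.Flat R (E.X i ⧸ killSub E a i) :=
      cut_flat hfl (flat_coker E a (hfl a) fun M => hex M _ (by omega)) i
    haveI := (hF i).1
    haveI := (hF i).2
    haveI := (hF (i - 1)).1
    haveI : Module.FinitePresentation R (E.X i ⧸ killSub E a i) := by
      haveI := Module.finitePresentation_of_projective R (E.X i)
      refine Module.finitePresentation_of_surjective (killSub E a i).mkQ (Submodule.mkQ_surjective _) ?_
      rw [Submodule.ker_mkQ, killSub]
      split_ifs
      · exact Module.Finite.iff_fg.1 (Module.Finite.equiv Submodule.topEquiv.symm)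
      · rw [← Submodule.map_top (E.d (i - 1) i).hom]; exact Module.Finite.fg_top.map _
      · exact Submodule.fg_bot
    exact ⟨inferInstanceAs (Module.Finite R (E.X i ⧸ killSub E a i)),
      Module.Flat.projective_of_finitePresentation (R := R) (M := E.X i ⧸ killSub E a i)⟩

end Groth.Agent.DRingTorAmp
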