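import Groth.Agent.DRingTorAmp.Triangle
import Groth.Agent.DRingKProj.Trunc
import Groth.Agent.DerCat.Devissage
import Mathlib.Algebra.Homology.DerivedCategory.ShortExact
import Mathlib.Algebra.Homology.HomologicalComplexAbelian

/-!
# Dévissage along terms and along cohomology
-/

universe u

open CategoryTheory Limits Pretriangulated

namespace Groth.Agent.DRingTorAmp

attribute [local instance] HasDerivedCategory.standard

set_option linter.style.haveILetI false

variable {R : Type u} [CommRing R]

/-- A single module placed in degree `n`, in `D(R)`. -/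
noncomputable def singleQIso (n : ℤ) (M : ModuleCat.{u} R) :
    (DerivedCategory.singleFunctor (ModuleCat.{u} R) n).obj M ≅
      DRing.toD ((HomologicalComplex.single (ModuleCat.{u} R) (ComplexShape.up ℤ) n).obj M) :=
  ((SingleFunctors.evaluation _ _ n).mapIso (DerivedCategory.singleFunctorsPostcompQIso (ModuleCat.{u} R))).app M

theorem shiftRep_iso {E : DRing.Cx R} {M : Type u} [AddCommGroup M] [Module R M] (e : DRing.toD E ≅ Dual.inD R M)
    (n : ℤ) : Nonempty (DRing.toD (E⟦-n⟧) ≅ (DerivedCategory.singleFunctor (ModuleCat.{u} R) n).obj (ModuleCat.of R M)) :=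
  ⟨(DerivedCategory.Q.commShiftIso (-n)).app E ≪≫ (shiftFunctor (Dual.D R) (-n)).mapIso e ≪≫
    DerCat.singleShiftIso n (ModuleCat.of R M)⟩

theorem hasTorAmplitudeIn_single {M : Type u} [AddCommGroup M] [Module R M] {a b n : ℤ}
    (h : DRing.HasTorAmplitudeIn R (a - n) (b - n) (Dual.inD R M)) :
    DRing.HasTorAmplitudeIn R a b ((DerivedCategory.singleFunctor (ModuleCat.{u} R) n).obj (ModuleCat.of R M)) := by
  obtain ⟨E, hE, hF, ⟨e⟩⟩ := h
  obtain ⟨e'⟩ := shiftRep_iso e n
  exact ⟨E⟦-n⟧, fun i hi => hE (i + -n) (by omega), fun i => hF (i + -n), ⟨e'⟩⟩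

theorem isPerfect_single {M : Type u} [AddCommGroup M] [Module R M] (h : DRing.IsPerfectModule R M) (n : ℤ) :
    DRing.IsPerfect R ((DerivedCategory.singleFunctor (ModuleCat.{u} R) n).obj (ModuleCat.of R M)) := by
  obtain ⟨E, a, b, hE, hF, ⟨e⟩⟩ := h
  obtain ⟨e'⟩ := shiftRep_iso e n
  exact ⟨E⟦-n⟧, a + n, b + n, fun i hi => hE (i + -n) (by omega), fun i => hF (i + -n), ⟨e'⟩⟩

/-- A property closed under extensions, true of the terms in their degrees, is true of a bounded complex. -/
theorem prop_of_terms (Q : ObjectProperty (Dual.D R)) [Q.IsClosedUnderIsomorphisms] (hz : ∀ Z, IsZero Z → Q Z)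
    (hext : ∀ T ∈ distTriang (Dual.D R), Q T.obj₁ → Q T.obj₃ → Q T.obj₂) :
    ∀ (m : ℕ) (K : DRing.Cx R) (c : ℤ), DRing.VanishesOutside K c (c + m - 1) →
      (∀ i, Q ((DerivedCategory.singleFunctor (ModuleCat.{u} R) i).obj (K.X i))) → Q (DRing.toD K)
  | 0, K, c, hK, _ => hz _ (DerCat.isZero_of_forall_homology _ fun i =>
      ((K.exactAt_iff_isZero_homology i).1 (ShortComplex.exact_of_isZero_X₂ _ (hK i (by omega)))).of_iso
        ((DerivedCategory.homologyFunctorFactors _ i).app K))
  | m + 1, K, c, hK, hX => by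
    let p : K ⟶ (HomologicalComplex.single (ModuleCat.{u} R) (ComplexShape.up ℤ) c).obj (K.X c) :=
      HomologicalComplex.mkHomToSingle (𝟙 _) fun i hi => (hK i (by simp at hi; omega)).eq_of_src _ _
    let S : ShortComplex (DRing.Cx R) := ShortComplex.mk (DRingKProj.truncι K (c + 1)) p (by
      refine HomologicalComplex.hom_ext _ _ fun i => ?_
      simp only [HomologicalComplex.comp_f, HomologicalComplex.zero_f]
      by_cases hi : i = c
      · subst hi
        exact (DRingKProj.isZero_trunc_X K _ (by omega)).eq_of_src _ _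
      · exact (HomologicalComplex.isZero_single_obj_X _ _ _ i hi).eq_of_tgt _ _)
    have hS : S.ShortExact := HomologicalComplex.shortExact_of_degreewise_shortExact S fun i => by
      by_cases hi : i ≤ c
      · have hz1 : IsZero ((DRingKProj.trunc K (c + 1)).X i) := DRingKProj.isZero_trunc_X K _ (by omega)
        have hp : IsIso (p.f i) := by
          by_cases hic : i = c
          · subst hic
            simp only [p, HomologicalComplex.mkHomToSingle_f]
            infer_instance
          · exact isIso_of_source_target_iso_zero _ (IsZero.isoZero (hK i (by omega)))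
              (IsZero.isoZero (HomologicalComplex.isZero_single_obj_X _ _ _ i hic))
        haveI := hp
        exact
          { exact := (ShortComplex.exact_iff_mono _ (hz1.eq_of_src _ _)).2 (inferInstanceAs (Mono (p.f i)))
            mono_f := ⟨fun _ _ _ => hz1.eq_of_tgt _ _⟩
            epi_g := inferInstanceAs (Epi (p.f i)) }
      · have hz3 : IsZero (((HomologicalComplex.single (ModuleCat.{u} R) (ComplexShape.up ℤ) c).obj (K.X c)).X i) :=
          HomologicalComplex.isZero_single_obj_X _ _ _ i (by omega)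
        have hiso : IsIso ((DRingKProj.truncι K (c + 1)).f i) := by
          rw [ConcreteCategory.isIso_iff_bijective]
          refine ⟨Subtype.val_injective, fun x => ⟨⟨x, ?_⟩, rfl⟩⟩
          rw [DRingKProj.truncSub_of_le K _ (by omega)]
          exact Submodule.mem_top
        haveI := hiso
        exact
          { exact := (ShortComplex.exact_iff_epi _ (hz3.eq_of_tgt _ _)).2
              (inferInstanceAs (Epi ((DRingKProj.truncι K (c + 1)).f i)))
            mono_f := inferInstanceAs (Mono ((DRingKProj.truncι K (c + 1)).f i))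
            epi_g := ⟨fun _ _ _ => hz3.eq_of_src _ _⟩ }
    refine hext _ (DerivedCategory.triangleOfSES_distinguished hS) ?_ (Q.prop_of_iso (singleQIso c (K.X c)) (hX c))
    refine prop_of_terms Q hz hext m (DRingKProj.trunc K (c + 1)) (c + 1) (fun i hi => ?_) fun i => ?_
    · rcases hi with hi | hi
      · exact DRingKProj.isZero_trunc_X K _ hi
      · exact DRingKProj.isZero_trunc_X_of_isZero K _ (hK i (by omega))
    · by_cases hi : i < c + 1
      · exact hz _ ((DerivedCategory.singleFunctor (ModuleCat.{u} R) i).map_isZero (DRingKProj.isZero_trunc_X K _ hi))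
      · have hiso : IsIso ((DRingKProj.truncι K (c + 1)).f i) := by
          rw [ConcreteCategory.isIso_iff_bijective]
          refine ⟨Subtype.val_injective, fun x => ⟨⟨x, ?_⟩, rfl⟩⟩
          rw [DRingKProj.truncSub_of_le K _ (by omega)]
          exact Submodule.mem_top
        exact Q.prop_of_iso ((DerivedCategory.singleFunctor (ModuleCat.{u} R) i).mapIso
          (asIso ((DRingKProj.truncι K (c + 1)).f i))).symm (hX i)

/-- Objects of tor amplitude in `[a, b]`. -/
def torAmpProp (a b : ℤ) : ObjectProperty (Dual.D R) := fun K => DRing.HasTorAmplitudeIn R a b K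

instance (a b : ℤ) : (torAmpProp (R := R) a b).IsClosedUnderIsomorphisms :=
  ⟨fun {K K'} e h => by obtain ⟨E, h1, h2, ⟨e'⟩⟩ := h; exact ⟨E, h1, h2, ⟨e' ≪≫ e⟩⟩⟩

/-- Perfect objects. -/
def perfectProp : ObjectProperty (Dual.D R) := fun K => DRing.IsPerfect R K

instance : (perfectProp (R := R)).IsClosedUnderIsomorphisms :=
  ⟨fun {K K'} e h => by obtain ⟨E, a, b, h1, h2, ⟨e'⟩⟩ := h; exact ⟨E, a, b, h1, h2, ⟨e' ≪≫ e⟩⟩⟩

theorem exists_zero_rep {Z : Dual.D R} (hZ : IsZero Z) :
    ∃ E : DRing.Cx R, (∀ i, IsZero (E.X i)) ∧ Nonempty (DRing.toD E ≅ Z) := by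
  refine ⟨(HomologicalComplex.single (ModuleCat.{u} R) (ComplexShape.up ℤ) 0).obj (ModuleCat.of R PUnit.{u+1}),
    fun i => ?_, ⟨(DerivedCategory.Q.map_isZero ?_).iso hZ⟩⟩
  · by_cases h : i = 0
    · subst h
      exact (ModuleCat.isZero_of_subsingleton _).of_iso (HomologicalComplex.singleObjXSelf (ComplexShape.up ℤ) 0 _)
    · exact HomologicalComplex.isZero_single_obj_X _ _ _ _ h
  · exact Functor.map_isZero _ (ModuleCat.isZero_of_subsingleton _)

theorem torAmp_of_isZero {Z : Dual.D R} (hZ : IsZero Z) (a b : ℤ) : DRing.HasTorAmplitudeIn R a b Z := by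
  obtain ⟨E, hE, he⟩ := exists_zero_rep hZ
  refine ⟨E, fun i _ => hE i, fun i => ?_, he⟩
  haveI := ModuleCat.subsingleton_of_isZero (hE i)
  infer_instance

theorem isPerfect_of_isZero {Z : Dual.D R} (hZ : IsZero Z) : DRing.IsPerfect R Z := by
  obtain ⟨E, hE, he⟩ := exists_zero_rep hZ
  refine ⟨E, 0, 0, fun i _ => hE i, fun i => ?_, he⟩
  haveI := ModuleCat.subsingleton_of_isZero (hE i)
  exact ⟨inferInstance, inferInstance⟩

theorem isGE_isLE_of_bounded {K : Dual.D R} {c d : ℤ}
    (h : ∀ i : ℤ, (i < c ∨ d < i) → Subsingleton (Dual.HD R K i)) : K.IsGE c ∧ K.IsLE d := by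
  constructor
  · rw [DerivedCategory.isGE_iff]
    exact fun i hi => (isZero_HD_iff K i).2 (h i (Or.inl hi))
  · rw [DerivedCategory.isLE_iff]
    exact fun i hi => (isZero_HD_iff K i).2 (h i (Or.inr hi))

end Groth.Agent.DRingTorAmp
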