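import Groth.Agent.DRingTorAmp.Values

/-!
# The criterion for tor amplitude
-/

universe u

open CategoryTheory Limits MonoidalCategory HomologicalComplex
open scoped TensorProduct

namespace Groth.Agent.DRingTorAmp

attribute [local instance] HasDerivedCategory.standard

set_option linter.style.haveILetI false

variable {R : Type u} [CommRing R]

open Groth.Agent.DRingKFlat

theorem isKFl_of_flat {E : DRing.Cx R} {b : ℤ} (hb : DRing.VanishesAbove E b) (hE : DRing.TermwiseFlat E) :
    IsKFl E :=
  isKFlat_of_bddAbove (isFl_of_termwiseFlat hE) b hb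

theorem subsingleton_HD_iff (E : DRing.Cx R) (i : ℤ) :
    Subsingleton (Dual.HD R (DRing.toD E) i) ↔ E.ExactAt i := by
  rw [HomologicalComplex.exactAt_iff_isZero_homology]
  refine Iff.trans ?_ (Iso.isZero_iff ((DerivedCategory.homologyFunctorFactors _ i).app E))
  exact ⟨fun h => @ModuleCat.isZero_of_subsingleton _ _ _ h, fun h => ModuleCat.subsingleton_of_isZero h⟩

theorem subsingleton_HD_congr {K K' : Dual.D R} (e : K ≅ K') (i : ℤ) :
    Subsingleton (Dual.HD R K i) ↔ Subsingleton (Dual.HD R K' i) :=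
  ((DerivedCategory.homologyFunctor (ModuleCat.{u} R) i).mapIso e).toLinearEquiv.toEquiv.subsingleton_congr

/-- Derived tensor products with modules have no cohomology in degree `i`, elementwise on a representative. -/
theorem subsingleton_lTensor_iff (M : ModuleCat.{u} R) [DRing.HasLTensor R M] {F : DRing.Cx R} (hF : IsKFl F)
    {K : Dual.D R} (e : DRing.toD F ≅ K) (i : ℤ) :
    Subsingleton (Dual.HD R ((DRing.LTensor R M).obj K) i) ↔ (DRing.tensorCx F M).ExactAt i := by
  obtain ⟨e'⟩ := exists_lTensor_iso M hF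
  rw [← subsingleton_HD_iff, subsingleton_HD_congr ((DRing.LTensor R M).mapIso e.symm ≪≫ e') i]

theorem exactAt_tensor_unit_iff (F : DRing.Cx R) (i : ℤ) :
    (DRing.tensorCx F (ModuleCat.of R R)).ExactAt i ↔ F.ExactAt i := by
  rw [HomologicalComplex.exactAt_iff_isZero_homology, HomologicalComplex.exactAt_iff_isZero_homology]
  exact Iso.isZero_iff ((HomologicalComplex.homologyFunctor _ _ i).mapIso
    (HomologicalComplex.Hom.isoOfComponents (fun n => ρ_ (F.X n))
      (fun i j _ => (rightUnitor_naturality (F.d i j)).symm)))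

theorem exact_d_iff (F : DRing.Cx R) (i j k : ℤ) (hij : i + 1 = j) (hjk : j + 1 = k) :
    F.ExactAt j ↔ Function.Exact (F.d i j).hom (F.d j k).hom := by
  rw [F.exactAt_iff' i j k (by simp; omega) (by simp; omega), ShortComplex.ShortExact.moduleCat_exact_iff_function_exact]
  rfl

theorem exact_tensor_iff (F : DRing.Cx R) (M : ModuleCat.{u} R) (i j k : ℤ) (hij : i + 1 = j) (hjk : j + 1 = k) :
    (DRing.tensorCx F M).ExactAt j ↔
      Function.Exact ((F.d i j).hom.rTensor M) ((F.d j k).hom.rTensor M) := by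
  rw [exact_d_iff _ i j k hij hjk]
  rfl

/-- The cokernel of `d : E^{a-1} → E^a` is flat. -/
theorem flat_coker (E : DRing.Cx R) (a : ℤ) (hflat : Module.Flat R (E.X a))
    (h : ∀ M : ModuleCat.{u} R, (DRing.tensorCx E M).ExactAt (a - 1)) :
    Module.Flat R (E.X a ⧸ LinearMap.range (E.d (a - 1) a).hom) := by
  let d := (E.d (a - 1) a).hom
  let d' := (E.d (a - 2) (a - 1)).hom
  let p := (LinearMap.range d).mkQ
  have hexp : Function.Exact d p := LinearMap.exact_map_mkQ_range d
  rw [Module.Flat.iff_lTensor_preserves_injective_linearMap]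
  intro N N' _ _ _ _ f hf
  rw [injective_iff_map_eq_zero]
  intro z hz
  obtain ⟨x, rfl⟩ := LinearMap.rTensor_surjective N (Submodule.mkQ_surjective _) z
  have hx : p.rTensor N' (f.lTensor (E.X a) x) = 0 := by
    rw [← LinearMap.comp_apply, LinearMap.rTensor_comp_lTensor, ← LinearMap.lTensor_comp_rTensor,
      LinearMap.comp_apply]
    exact hz
  obtain ⟨y', hy'⟩ := (rTensor_exact N' hexp (Submodule.mkQ_surjective _) _).1 hx
  let q := (LinearMap.range f).mkQ
  have hqf : Function.Exact f q := LinearMap.exact_map_mkQ_range f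
  have hq0 : d.rTensor _ (q.lTensor (E.X (a - 1)) y') = 0 := by
    rw [← LinearMap.comp_apply, LinearMap.rTensor_comp_lTensor, ← LinearMap.lTensor_comp_rTensor,
      LinearMap.comp_apply, hy', ← LinearMap.comp_apply, ← LinearMap.lTensor_comp, hqf.linearMap_comp_eq_zero,
      LinearMap.lTensor_zero, LinearMap.zero_apply]
  obtain ⟨w'', hw''⟩ := ((exact_tensor_iff E (ModuleCat.of R _) (a - 2) (a - 1) a (by omega) (by omega)).1
    (h _) _).1 hq0
  obtain ⟨w', rfl⟩ := LinearMap.lTensor_surjective (E.X (a - 2)) (Submodule.mkQ_surjective (LinearMap.range f)) w''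
  have hy0 : q.lTensor (E.X (a - 1)) (y' - d'.rTensor N' w') = 0 := by
    rw [map_sub, ← LinearMap.comp_apply (LinearMap.lTensor _ q), LinearMap.lTensor_comp_rTensor,
      ← LinearMap.rTensor_comp_lTensor, LinearMap.comp_apply, sub_eq_zero]
    exact hw''.symm
  obtain ⟨y, hy⟩ := (lTensor_exact (E.X (a - 1)) hqf (Submodule.mkQ_surjective _) _).1 hy0
  have hdd : d ∘ₗ d' = 0 := by
    show ((E.d (a - 2) (a - 1)) ≫ E.d (a - 1) a).hom = 0
    rw [E.d_comp_d]; rfl
  have hxy : f.lTensor (E.X a) (d.rTensor N y) = f.lTensor (E.X a) x := by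
    rw [← LinearMap.comp_apply, LinearMap.lTensor_comp_rTensor, ← LinearMap.rTensor_comp_lTensor,
      LinearMap.comp_apply, hy, map_sub, hy', ← LinearMap.comp_apply, ← LinearMap.rTensor_comp, hdd,
      LinearMap.rTensor_zero, LinearMap.zero_apply, sub_zero]
  have := Module.Flat.lTensor_preserves_injective_linearMap (M := E.X a) f hf hxy
  rw [← this, ← LinearMap.comp_apply, ← LinearMap.rTensor_comp, hexp.linearMap_comp_eq_zero,
    LinearMap.rTensor_zero, LinearMap.zero_apply]

/-! ### Truncation from below -/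

variable (E : DRing.Cx R) (a : ℤ)

/-- What is divided out. -/
noncomputable def killSub (i : ℤ) : Submodule R (E.X i) :=
  if i < a then ⊤ else if i = a then LinearMap.range (E.d (i - 1) i).hom else ⊥

theorem d_mem_killSub (i j : ℤ) (x : E.X i) (hx : x ∈ killSub E a i) : E.d i j x ∈ killSub E a j := by
  by_cases hij : i + 1 = j
  · subst hij
    unfold killSub at hx ⊢
    rcases lt_trichotomy (i + 1) a with h | h | h
    · rw [if_pos h]; exact Submodule.mem_top
    · rw [if_neg (by omega), if_pos h]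
      refine ⟨(eqToHom (by rw [add_sub_cancel_right]) : E.X i ⟶ E.X (i + 1 - 1)) x, ?_⟩
      show E.d (i + 1 - 1) (i + 1) _ = E.d i (i + 1) x
      rw [← ModuleCat.comp_apply, HomologicalComplex.eqToHom_comp_d]
      · rfl
      · simp
    · by_cases hi : i = a
      · rw [if_neg (by omega), if_pos hi] at hx
        obtain ⟨w, rfl⟩ := hx
        rw [show E.d i (i + 1) ((E.d (i - 1) i).hom w) = 0 by
          show (E.d (i - 1) i ≫ E.d i (i + 1)) w = 0
          rw [E.d_comp_d]; rfl]
        exact Submodule.zero_mem _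
      · rw [if_neg (by omega), if_neg hi, Submodule.mem_bot] at hx
        rw [hx, map_zero]
        exact Submodule.zero_mem _
  · rw [E.shape i j hij]
    exact Submodule.zero_mem _

/-- The truncation `coker d^{a-1} → E^{a+1} → ⋯`. -/
noncomputable def cut : DRing.Cx R where
  X i := ModuleCat.of R (E.X i ⧸ killSub E a i)
  d i j := ModuleCat.ofHom ((killSub E a i).mapQ (killSub E a j) (E.d i j).hom (fun x hx => d_mem_killSub E a i j x hx))
  shape i j h := ModuleCat.hom_ext (Submodule.linearMap_qext _ (LinearMap.ext fun x => by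
    show Submodule.Quotient.mk (E.d i j x) = 0
    rw [E.shape i j h]; rfl))
  d_comp_d' i j k _ _ := ModuleCat.hom_ext (Submodule.linearMap_qext _ (LinearMap.ext fun x => by
    show Submodule.Quotient.mk (E.d j k (E.d i j x)) = 0
    rw [← ModuleCat.comp_apply, E.d_comp_d]; rfl))

/-- The projection to the truncation. -/
noncomputable def cutπ : E ⟶ cut E a where
  f i := ModuleCat.ofHom (killSub E a i).mkQ
  comm' _ _ _ := rfl

variable {E a}

theorem cut_isZero {i : ℤ} (h : i < a ∨ IsZero (E.X i)) : IsZero ((cut E a).X i) := by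
  haveI : Subsingleton (E.X i ⧸ killSub E a i) := by
    rcases h with h | h
    · rw [Submodule.Quotient.subsingleton_iff, killSub, if_pos h]
    · haveI := ModuleCat.subsingleton_of_isZero h
      exact (Submodule.mkQ_surjective _).subsingleton
  exact ModuleCat.isZero_of_subsingleton (ModuleCat.of R (E.X i ⧸ killSub E a i))

theorem cut_flat (hE : DRing.TermwiseFlat E)
    (hc : Module.Flat R (E.X a ⧸ LinearMap.range (E.d (a - 1) a).hom)) : DRing.TermwiseFlat (cut E a) := by
  intro i
  show Module.Flat R (E.X i ⧸ killSub E a i)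
  by_cases h : i < a
  · haveI : Subsingleton (E.X i ⧸ killSub E a i) := by
      rw [Submodule.Quotient.subsingleton_iff, killSub, if_pos h]
    infer_instance
  by_cases h' : i = a
  · subst h'
    rw [killSub, if_neg h, if_pos rfl]
    exact hc
  · haveI := hE i
    exact Module.Flat.of_linearEquiv (Submodule.quotEquivOfEqBot _ (by rw [killSub, if_neg h, if_neg h']))

theorem quasiIsoAt_cutπ {i : ℤ} (hi : ¬ i < a) : QuasiIsoAt (cutπ E a) i := by
  rw [quasiIsoAt_iff' (cutπ E a) (i - 1) i (i + 1) (by simp) (by simp), ShortComplex.quasiIso_iff,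
    ConcreteCategory.isIso_iff_bijective]
  refine ⟨(FlatComplex.homologyMap_injective_iff _).2 fun (x : E.X i) hx ⟨w, hw⟩ => ?_,
    (FlatComplex.homologyMap_surjective_iff _).2 fun z hz => ?_⟩
  · obtain ⟨w, rfl⟩ := Submodule.mkQ_surjective _ w
    have h : x - E.d (i - 1) i w ∈ killSub E a i := (Submodule.Quotient.eq _).1 hw
    rw [killSub, if_neg hi] at h
    by_cases hia : i = a
    · rw [if_pos hia] at h
      obtain ⟨v, hv⟩ := h
      refine ⟨(show E.X (i - 1) from w) + v, ?_⟩
      show x = E.d (i - 1) i (w + v)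
      rw [map_add, show E.d (i - 1) i v = x - E.d (i - 1) i w from hv]; abel
    · rw [if_neg hia, Submodule.mem_bot, sub_eq_zero] at h
      exact ⟨w, h⟩
  · obtain ⟨x, rfl⟩ := Submodule.mkQ_surjective _ z
    have h : E.d i (i + 1) x ∈ killSub E a (i + 1) := (Submodule.Quotient.mk_eq_zero _).1 hz
    rw [killSub, if_neg (by omega), if_neg (by omega), Submodule.mem_bot] at h
    exact ⟨x, h, 0, (sub_self _).trans (map_zero _).symm⟩

theorem quasiIso_cutπ (hex : ∀ i, i < a → E.ExactAt i) : QuasiIso (cutπ E a) := by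
  refine ⟨fun i => ?_⟩
  by_cases hi : i < a
  · rw [quasiIsoAt_iff_exactAt]
    · rw [(cut E a).exactAt_iff' (i - 1) i (i + 1) (by simp) (by simp)]
      exact ShortComplex.exact_of_isZero_X₂ _ (cut_isZero (Or.inl hi))
    · exact hex i hi
  exact quasiIsoAt_cutπ hi

/-- Tor amplitude from exactness of a K-flat representative tensored with every module. -/
theorem hasTorAmplitudeIn_of_exact {F : DRing.Cx R} (hF : IsKFl F) {K : Dual.D R} (e : DRing.toD F ≅ K) {a b : ℤ}
    (h : ∀ (M : ModuleCat.{u} R) (i : ℤ), i < a ∨ b < i → (DRing.tensorCx F M).ExactAt i) :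
    DRing.HasTorAmplitudeIn R a b K := by
  have hFb : ∀ i, b < i → F.ExactAt i := fun i hi => (exactAt_tensor_unit_iff F i).1 (h _ i (Or.inr hi))
  obtain ⟨P, π, hP, hπ, hfree, hPb⟩ := DRingKProj.exists_resolution_of_exactAt (K := F) (S := fun n => n ≤ b)
    (fun n hn => hFb n (by omega)) (fun n hn => by omega)
  haveI := hπ
  have hb : DRing.VanishesAbove P b := fun i hi => hPb i (by omega)
  have hPflat : DRing.TermwiseFlat P := fun i => haveI := hfree i; inferInstance
  have hex : ∀ (M : ModuleCat.{u} R) (i : ℤ), i < a → (DRing.tensorCx P M).ExactAt i := fun M i hi => by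
    have hq := quasiIso_map (tensorRight M) (fun _ hC hac => acyclic_tensorCx hC hac M) (isKFl_of_flat hb hPflat) hF π
    exact (@exactAt_iff_of_quasiIsoAt _ _ _ _ _ _ _ (((tensorRight M).mapHomologicalComplex (ComplexShape.up ℤ)).map π) i
      _ _ (hq.quasiIsoAt i)).2
      (h M i (Or.inl hi))
  haveI := quasiIso_cutπ (a := a) fun i hi => (exactAt_tensor_unit_iff P i).1 (hex _ i hi)
  haveI : IsIso (DerivedCategory.Q.map π) := (DerivedCategory.isIso_Q_map_iff_quasiIso _ π).2 hπ
  haveI : IsIso (DerivedCategory.Q.map (cutπ P a)) := (DerivedCategory.isIso_Q_map_iff_quasiIso _ _).2 inferInstance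
  refine ⟨cut P a, fun i hi => cut_isZero (hi.imp_right (hb i)),
    cut_flat hPflat (flat_coker P a (hPflat a) fun M => hex M _ (by omega)),
    ⟨(asIso (DerivedCategory.Q.map (cutπ P a))).symm ≪≫ asIso (DerivedCategory.Q.map π) ≪≫ e⟩⟩

theorem exactAt_tensor_of_outside {F : DRing.Cx R} {a b : ℤ} (hF : DRing.VanishesOutside F a b)
    (M : ModuleCat.{u} R) (i : ℤ) (hi : i < a ∨ b < i) : (DRing.tensorCx F M).ExactAt i := by
  rw [(DRing.tensorCx F M).exactAt_iff' (i - 1) i (i + 1) (by simp) (by simp)]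
  exact ShortComplex.exact_of_isZero_X₂ _ ((tensorRight M).map_isZero (hF i hi))

theorem hasTorAmplitudeIn_iff [∀ M : ModuleCat.{u} R, DRing.HasLTensor R M] (K : Dual.D R) (a b : ℤ) :
    DRing.HasTorAmplitudeIn R a b K ↔
      ∀ (M : ModuleCat.{u} R) (i : ℤ), (i < a ∨ b < i) → Subsingleton (Dual.HD R ((DRing.LTensor R M).obj K) i) := by
  constructor
  · rintro ⟨F, hFo, hFf, ⟨e⟩⟩ M i hi
    exact (subsingleton_lTensor_iff M (isKFl_of_flat (fun j hj => hFo j (Or.inr hj)) hFf) e i).2
      (exactAt_tensor_of_outside hFo M i hi)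
  · intro h
    obtain ⟨P, hP, -, ⟨e⟩⟩ := DRingKProj.exists_isKProjective_iso K
    haveI := hP
    exact hasTorAmplitudeIn_of_exact (isKFl_of_isKProjective P) e fun M i hi =>
      (subsingleton_lTensor_iff M (isKFl_of_isKProjective P) e i).1 (h M i hi)

/-- Exactness of any K-flat representative. -/
theorem exactAt_of_hasTorAmplitudeIn {K : Dual.D R} {a b : ℤ} (h : DRing.HasTorAmplitudeIn R a b K)
    {F : DRing.Cx R} (hF : IsKFl F) (e : DRing.toD F ≅ K) (M : ModuleCat.{u} R) (i : ℤ) (hi : i < a ∨ b < i) :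
    (DRing.tensorCx F M).ExactAt i := by
  haveI : ∀ M : ModuleCat.{u} R, DRing.HasLTensor R M := fun M => DRingKProj.hasLTensor M
  exact (subsingleton_lTensor_iff M hF e i).1 ((hasTorAmplitudeIn_iff K a b).1 h M i hi)

end Groth.Agent.DRingTorAmp
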