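import Groth.Agent.DRingTorAmp.RestrictPC
import Groth.Agent.DRingAmp.Regular

/-!
# Pseudo-coherence along `R[x] → R`
-/

universe u

open CategoryTheory Limits Pretriangulated Polynomial

namespace Groth.Agent.DRingTorAmp

attribute [local instance] HasDerivedCategory.standard

set_option linter.style.haveILetI false

theorem isPseudoCoherent_iff_evalZero (R : Type u) [CommRing R] (K : Dual.D R) (m : ℤ) :
    DRing.IsPseudoCoherent R m K ↔
      DRing.IsPseudoCoherent (Polynomial R) m ((DRing.restrictD (Polynomial.evalRingHom (0 : R))).obj K) := by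
  refine isPseudoCoherent_restrict_iff (Polynomial.evalRingHom (0 : R)) ?_ m K
  letI := (Polynomial.evalRingHom (0 : R)).toAlgebra
  let P := Polynomial R
  let f : P →ₗ[P] P := LinearMap.mulLeft P (X : P)
  let g : P →ₗ[P] R := Algebra.linearMap P R
  let S : ShortComplex (ModuleCat.{u} P) := ShortComplex.mk (ModuleCat.ofHom f) (ModuleCat.ofHom g)
    (ModuleCat.hom_ext (LinearMap.ext fun p => by
      show Polynomial.eval (0 : R) ((X : Polynomial R) * p) = 0
      exact Polynomial.eval_mul.trans (by rw [Polynomial.eval_X, zero_mul])))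
  have hS : S.ShortExact :=
    { exact := (ShortComplex.ShortExact.moduleCat_exact_iff_function_exact S).2 fun p => by
        show Polynomial.eval 0 p = 0 ↔ p ∈ Set.range fun q : P => X * q
        rw [← Polynomial.coeff_zero_eq_eval_zero, ← X_dvd_iff]
        exact ⟨fun ⟨q, hq⟩ => ⟨q, hq.symm⟩, fun ⟨q, hq⟩ => ⟨q, hq.symm⟩⟩
      mono_f := (ModuleCat.mono_iff_injective _).2 fun p q h => (Polynomial.isRegular_X (R := R)).left h
      epi_g := (ModuleCat.epi_iff_surjective _).2 fun r => ⟨C r, Polynomial.eval_C⟩ }
  exact ((isPerfect_iff _).1 (isPerfect_obj₃ hS.singleTriangle hS.singleTriangle_distinguished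
    (DRingAmp.isPerfectModule_projective P) (DRingAmp.isPerfectModule_projective P))).1

end Groth.Agent.DRingTorAmp
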